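import Mathlib.AlgebraicGeometry.Morphisms.Affine
import Mathlib.AlgebraicGeometry.Morphisms.Separated
import Mathlib.Algebra.Ring.Action.Basic

/-!
# Invariant affine neighbourhoods of fixed points of finite group actions
-/

set_option autoImplicit false
set_option backward.isDefEq.respectTransparency false
set_option backward.isDefEq.respectTransparency.types false

universe u

open CategoryTheory CategoryTheory.Limits AlgebraicGeometry

namespace Groth.Agent.AlgStkX.FieldChart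

/-- A fixed point of a finite group action on a separated scheme has an invariant affine neighbourhood, whose
ring carries the action. -/
theorem exists_affine_invariant {S : Scheme.{u}} (P : Over S) [P.left.IsSeparated] {G : Type u} [Group G] [Finite G]
    (ρ : G → (P ⟶ P)) (hρ₁ : ρ 1 = 𝟙 P) (hρ : ∀ σ τ, ρ (σ * τ) = ρ σ ≫ ρ τ) (x : P.left)
    (hx : ∀ τ, (ρ τ).left x = x)
    (hfree : ∀ τ : G, τ ≠ 1 → ∃ f : Γ(P.left, ⊤), IsUnit (f - (ρ τ).left.appTop f)) :
    ∃ (R A : Type u) (_ : CommRing R) (_ : CommRing A) (act : MulSemiringAction G A)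
      (iR : Spec (CommRingCat.of R) ⟶ S) (φ : R →+* A) (i : Spec (CommRingCat.of A) ⟶ P.left),
      IsOpenImmersion i ∧ x ∈ Set.range i ∧
      (∀ (g : G) r, letI := act; g • φ r = φ r) ∧ i ≫ P.hom = Spec.map (CommRingCat.ofHom φ) ≫ iR ∧
      (∀ g : G, letI := act;
        Spec.map (CommRingCat.ofHom (MulSemiringAction.toRingHom G A g)) ≫ i = i ≫ (ρ g).left) ∧
      (∀ g : G, g ≠ 1 → letI := act; Ideal.span (Set.range fun a : A => a - g • a) = ⊤) := by
  obtain ⟨S₀, hS₀, hxS₀, -⟩ := exists_isAffineOpen_mem_and_subset (U := (⊤ : S.Opens)) (x := P.hom x) trivial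
  obtain ⟨O₀, hO₀, hxO₀, hO₀S⟩ := exists_isAffineOpen_mem_and_subset (U := P.hom ⁻¹ᵁ S₀) (x := x) hxS₀
  let Oi : G → P.left.Opens := fun τ => (ρ τ).left ⁻¹ᵁ O₀
  have hOi : ∀ τ, IsAffineOpen (Oi τ) := fun τ => by
    have : IsIso (ρ τ) := ⟨ρ τ⁻¹, by rw [← hρ, mul_inv_cancel, hρ₁], by rw [← hρ, inv_mul_cancel, hρ₁]⟩
    have : IsIso (ρ τ).left := (Over.forget S).map_isIso (ρ τ)
    exact hO₀.preimage_of_isIso _
  let O : P.left.Opens := ⨅ τ, Oi τ
  have hO : IsAffineOpen O := IsAffineOpen.iInf hOi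
  have hmem : ∀ y : P.left, y ∈ O ↔ ∀ τ, (ρ τ).left y ∈ O₀ := fun y => by
    rw [← SetLike.mem_coe, TopologicalSpace.Opens.coe_iInf,
      Set.mem_iInter]
    rfl
  have hxO : x ∈ O := (hmem x).2 fun τ => by rw [hx]; exact hxO₀
  have hle : O ≤ O₀ := fun y hy => by
    have h := (hmem y).1 hy 1
    rw [hρ₁] at h
    exact h
  let A := Γ(P.left, O)
  let i : Spec A ⟶ P.left := hO.fromSpec
  have hrange : Set.range i = O := hO.range_fromSpec
  have he : ∀ τ, ∃ e : Spec A ⟶ Spec A, e ≫ i = i ≫ (ρ τ).left := fun τ => by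
    refine ⟨IsOpenImmersion.lift i (i ≫ (ρ τ).left) ?_, IsOpenImmersion.lift_fac _ _ _⟩
    rintro _ ⟨z, rfl⟩
    rw [hrange]
    refine (hmem _).2 fun τ' => ?_
    have hz : i z ∈ O := by rw [← SetLike.mem_coe, ← hrange]; exact ⟨z, rfl⟩
    have h := (hmem _).1 hz (τ * τ')
    rw [hρ] at h
    exact h
  choose e he using he
  let φ : G → (A ⟶ A) := fun τ => Spec.preimage (e τ)
  have hφ : ∀ τ, Spec.map (φ τ) ≫ i = i ≫ (ρ τ).left := fun τ => by rw [Spec.map_preimage, he]
  have hφ₁ : φ 1 = 𝟙 A := Spec.map_injective ((cancel_mono i).1 (by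
    rw [hφ, hρ₁, Spec.map_id, Category.id_comp]; exact Category.comp_id i))
  have hφm : ∀ σ τ, φ (σ * τ) = φ τ ≫ φ σ := fun σ τ => Spec.map_injective ((cancel_mono i).1 (by
    rw [hφ, hρ, Spec.map_comp, Category.assoc, hφ, reassoc_of% (hφ σ), Over.comp_left]))
  let act : MulSemiringAction G A :=
    { smul := fun τ a => φ τ a
      one_smul := fun a => show φ 1 a = a by rw [hφ₁]; rfl
      mul_smul := fun σ τ a => show φ (σ * τ) a = φ σ (φ τ a) by rw [hφm]; rfl
      smul_zero := fun τ => map_zero (φ τ).hom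
      smul_add := fun τ => map_add (φ τ).hom
      smul_one := fun τ => map_one (φ τ).hom
      smul_mul := fun τ => map_mul (φ τ).hom }
  have hact : ∀ g : G, letI := act; CommRingCat.ofHom (MulSemiringAction.toRingHom G A g) = φ g := fun g => rfl
  let R := Γ(S, S₀)
  have hR : Set.range (i ≫ P.hom) ⊆ Set.range hS₀.fromSpec := by
    rintro _ ⟨z, rfl⟩
    rw [hS₀.range_fromSpec]
    have hz : i z ∈ O := by rw [← SetLike.mem_coe, ← hrange]; exact ⟨z, rfl⟩
    exact hO₀S (hle hz)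
  let ψ : R ⟶ A := Spec.preimage (IsOpenImmersion.lift hS₀.fromSpec (i ≫ P.hom) hR)
  have hψ : Spec.map ψ ≫ hS₀.fromSpec = i ≫ P.hom := by rw [Spec.map_preimage, IsOpenImmersion.lift_fac]
  refine ⟨R, A, inferInstance, inferInstance, act, hS₀.fromSpec, ψ.hom, i, inferInstance, ?_, fun g r => ?_,
    hψ.symm, fun g => ?_, fun g hg => ?_⟩
  · exact hrange ▸ hxO
  · have h : ψ ≫ φ g = ψ := Spec.map_injective ((cancel_mono hS₀.fromSpec).1 (by
      rw [Spec.map_comp, Category.assoc, hψ, reassoc_of% (hφ g), Over.w]))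
    exact congrArg (fun m : R ⟶ A => m r) h
  · exact hφ g
  · obtain ⟨f, hf⟩ := hfree g hg
    let b : A := (Scheme.ΓSpecIso A).hom (i.appTop f)
    have hb : φ g b = (Scheme.ΓSpecIso A).hom (i.appTop ((ρ g).left.appTop f)) := by
      have h1 : (i ≫ (ρ g).left).appTop f = i.appTop ((ρ g).left.appTop f) := by
        rw [Scheme.Hom.comp_appTop]; rfl
      rw [← h1, ← hφ g, Scheme.Hom.comp_appTop]
      exact (congr($(Scheme.ΓSpecIso_naturality (φ g)) (i.appTop f))).symm
    refine Ideal.eq_top_of_isUnit_mem _ (Ideal.subset_span ⟨b, rfl⟩) ?_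
    show IsUnit (b - φ g b)
    rw [hb, ← map_sub, ← map_sub]
    exact (hf.map i.appTop.hom).map (Scheme.ΓSpecIso A).hom.hom

end Groth.Agent.AlgStkX.FieldChart
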