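import Mathlib.AlgebraicGeometry.AffineSpace
import Mathlib.AlgebraicGeometry.Morphisms.Smooth
import Mathlib.AlgebraicGeometry.Morphisms.Separated
import Mathlib.RingTheory.RingHom.Smooth

/-!
# Tuples of functions with invertible differences over an affine scheme
-/

set_option autoImplicit false
set_option backward.isDefEq.respectTransparency false
set_option backward.isDefEq.respectTransparency.types false

universe u

open CategoryTheory CategoryTheory.Limits AlgebraicGeometry

namespace Groth.Agent.AlgStkX.FieldChart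

theorem smooth_affineSpace' (I : Type u) [Finite I] (S : Scheme.{u}) : Smooth (𝔸(I; S) ↘ S) := by
  have : Smooth (terminal.from (Spec (CommRingCat.of (MvPolynomial I (ULift.{u} ℤ))))) := by
    have := isIso_of_isTerminal specULiftZIsTerminal.{u} terminalIsTerminal (terminal.from _)
    have : Smooth (Spec.map (CommRingCat.ofHom (MvPolynomial.C : ULift.{u} ℤ →+* MvPolynomial I (ULift.{u} ℤ)))) := by
      rw [HasRingHomProperty.Spec_iff (P := @Smooth)]
      change RingHom.Smooth (algebraMap (ULift.{u} ℤ) (MvPolynomial I (ULift.{u} ℤ)))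
      rw [RingHom.smooth_algebraMap]
      exact { formallySmooth := inferInstance, finitePresentation := inferInstance }
    rw [← terminal.comp_from (Spec.map (CommRingCat.ofHom (MvPolynomial.C : ULift.{u} ℤ →+* MvPolynomial I (ULift.{u} ℤ))))]
    exact inferInstanceAs (Smooth (Spec.map (CommRingCat.ofHom (MvPolynomial.C : ULift.{u} ℤ →+* MvPolynomial I (ULift.{u} ℤ))) ≫ terminal.from (Spec (CommRingCat.of (ULift.{u} ℤ)))))
  exact inferInstanceAs (Smooth (Limits.pullback.fst (terminal.from S) (terminal.from (Spec (CommRingCat.of (MvPolynomial I (ULift.{u} ℤ)))))))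

theorem isUnit_of_basicOpen_top {X : Scheme.{u}} {f : Γ(X, ⊤)} (h : X.basicOpen f = ⊤) : IsUnit f :=
  X.toRingedSpace.isUnit_of_isUnit_germ ⊤ f fun x hx => by
    have : x ∈ X.basicOpen f := by rw [h]; trivial
    exact (X.mem_basicOpen f x hx).1 this

/-- The functor of tuples with invertible differences over an affine scheme. -/
theorem exists_tuple_base {S : Scheme.{u}} (U : Over S) [IsAffine U.left] (G : Type u) [Finite G] :
    ∃ (T₀ : Over S) (g₀ : T₀ ⟶ U) (w₀ : G → Γ(T₀.left, ⊤)), IsAffine T₀.left ∧ Smooth g₀.left ∧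
      (∀ σ τ, σ ≠ τ → IsUnit (w₀ σ - w₀ τ)) ∧
      (∀ {T : Over S} (l l' : T ⟶ T₀), l ≫ g₀ = l' ≫ g₀ →
        (∀ σ, l.left.appTop (w₀ σ) = l'.left.appTop (w₀ σ)) → l = l') ∧
      ∀ {T : Over S} (g : T ⟶ U) (w : G → Γ(T.left, ⊤)), (∀ σ τ, σ ≠ τ → IsUnit (w σ - w τ)) →
        ∃ l : T ⟶ T₀, l ≫ g₀ = g ∧ ∀ σ, l.left.appTop (w₀ σ) = w σ := by
  classical
  have : Fintype G := Fintype.ofFinite G
  let A := 𝔸(G; U.left)
  let s : Finset (G × G) := Finset.univ.filter fun q => q.1 ≠ q.2
  let Δ : Γ(A, ⊤) := ∏ q ∈ s, (AffineSpace.coord U.left q.1 - AffineSpace.coord U.left q.2)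
  let D := A.basicOpen Δ
  let T₀ : Over S := Over.mk (D.ι ≫ (A ↘ U.left) ≫ U.hom)
  let g₀ : T₀ ⟶ U := Over.homMk (D.ι ≫ (A ↘ U.left)) (Category.assoc _ _ _)
  let w₀ : G → Γ(T₀.left, ⊤) := fun σ => D.ι.appTop (AffineSpace.coord U.left σ)
  have hD : IsAffine D.toScheme := (isAffineOpen_top A).basicOpen Δ
  have hsm : Smooth (A ↘ U.left) := smooth_affineSpace' G U.left
  have hΔ : IsUnit (D.ι.appTop Δ) := isUnit_of_basicOpen_top (by
    rw [← Scheme.preimage_basicOpen_top]
    exact D.ι_preimage_self)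
  refine ⟨T₀, g₀, w₀, hD, inferInstanceAs (Smooth (D.ι ≫ (A ↘ U.left))), fun σ τ hne => ?_, fun {T} l l' hg hw => ?_,
    fun {T} g w hw => ?_⟩
  · have h : IsUnit (∏ q ∈ s, (w₀ q.1 - w₀ q.2)) := by
      simpa [Δ, w₀, map_prod, map_sub] using hΔ
    exact IsUnit.prod_iff.1 h (σ, τ) (Finset.mem_filter.2 ⟨Finset.mem_univ _, hne⟩)
  · refine Over.OverMorphism.ext ((cancel_mono D.ι).1 (AffineSpace.hom_ext ?_ fun σ => ?_))
    · rw [Category.assoc, Category.assoc]
      exact congrArg (fun m : T ⟶ U => m.left) hg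
    · rw [Scheme.Hom.comp_appTop, Scheme.Hom.comp_appTop, CommRingCat.comp_apply, CommRingCat.comp_apply]
      exact hw σ
  · let h : T.left ⟶ A := AffineSpace.homOfVector g.left w
    have hu : IsUnit (h.appTop Δ) := by
      rw [map_prod]
      refine IsUnit.prod_iff.2 fun q hq => ?_
      rw [map_sub]
      show IsUnit (h.appTop (AffineSpace.coord _ q.1) - h.appTop (AffineSpace.coord _ q.2))
      rw [AffineSpace.homOfVector_appTop_coord, AffineSpace.homOfVector_appTop_coord]
      exact hw _ _ (Finset.mem_filter.1 hq).2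
    have htop : h ⁻¹ᵁ D = ⊤ := by
      rw [Scheme.preimage_basicOpen_top]
      exact T.left.basicOpen_of_isUnit hu
    have hr : Set.range h ⊆ Set.range D.ι := by
      rintro _ ⟨x, rfl⟩
      rw [Scheme.Opens.range_ι]
      have : x ∈ h ⁻¹ᵁ D := htop ▸ trivial
      exact this
    let l : T.left ⟶ D.toScheme := IsOpenImmersion.lift D.ι h hr
    have hl : l ≫ D.ι = h := IsOpenImmersion.lift_fac _ _ _
    refine ⟨Over.homMk l ?_, Over.OverMorphism.ext ?_, fun σ => ?_⟩
    · show l ≫ D.ι ≫ (A ↘ U.left) ≫ U.hom = T.hom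
      rw [reassoc_of% hl, AffineSpace.homOfVector_over_assoc]
      exact Over.w g
    · show l ≫ D.ι ≫ (A ↘ U.left) = g.left
      rw [reassoc_of% hl, AffineSpace.homOfVector_over]
    · show l.appTop (D.ι.appTop _) = w σ
      rw [← CommRingCat.comp_apply, ← Scheme.Hom.comp_appTop, hl, AffineSpace.homOfVector_appTop_coord]

end Groth.Agent.AlgStkX.FieldChart
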