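import Groth.Agent.AlgStkX.FieldChart.GalChart
import Groth.Agent.AlgStLib.Source
import Groth.Agent.AlgStLib.Charts
import Groth.Agent.AlgStLib.LocEss
import Groth.Agent.GerbFlat.Section
import Groth.Agent.SmoothSecLib.Basic
import Mathlib.FieldTheory.IsAlgClosed.AlgebraicClosure
import Mathlib.FieldTheory.Normal.Closure
import Mathlib.FieldTheory.Galois.Basic

/-!
# An affine smooth chart through a field point
-/

set_option autoImplicit false
set_option backward.isDefEq.respectTransparency false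
set_option backward.isDefEq.respectTransparency.types false

universe u

open CategoryTheory CategoryTheory.Functor CategoryTheory.Limits AlgebraicGeometry AlgSp
open Groth.Agent.AlgSpLib Groth.Agent.AlgStLib Groth.Agent.FibBase

namespace Groth.Agent.AlgStkX.FieldChart

variable {S : Scheme.{u}} {k : Type u} [Field k] (sk : Spec (CommRingCat.of k) ⟶ S) {𝒵 : AlgSt.Cat S}

/-- A chart restricted to an open subscheme. -/
noncomputable abbrev chartRes {U₀ : Over S} (a : FibCat.overCat U₀ ⥤ᵇ 𝒵) (D : U₀.left.Opens) :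
    FibCat.overCat (Over.mk (D.ι ≫ U₀.hom)) ⥤ᵇ 𝒵 :=
  BasedFunctor.comp (AlgSt.overMap (Over.homMk D.ι rfl : Over.mk (D.ι ≫ U₀.hom) ⟶ U₀)) a

theorem repByAlgSpWith_chartRes {U₀ : Over S} {a : FibCat.overCat U₀ ⥤ᵇ 𝒵}
    (ha : AlgSt.RepByAlgSpWith (LocP @Smooth) a) (D : U₀.left.Opens) :
    AlgSt.RepByAlgSpWith (LocP @Smooth) (chartRes a D) :=
  repByAlgSpWith_locP_comp (isFibGrpd_overCat _) (isFibGrpd_overCat U₀)
    (repByAlgSpWith_overMap stableBC_locP (locP_of_repWith ((repWith_yon_map_iff (P := @Smooth)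
      (Over.homMk D.ι rfl : Over.mk (D.ι ≫ U₀.hom) ⟶ U₀)).2 (inferInstanceAs (Smooth D.ι))))) ha

/-- A field point lifts to an affine open of an atlas over a finite Galois subextension of a fixed
algebraic closure. -/
theorem exists_galois_lift {U₀ : Over S} {a : FibCat.overCat U₀ ⥤ᵇ 𝒵}
    (ha : AlgSt.RepByAlgSpWith (LocP @Smooth) a) (has : AlgSt.RepByAlgSpWith IsSurjectiveMor a)
    (x : FibCat.overCat (Over.mk sk) ⥤ᵇ 𝒵) :
    ∃ (L : IntermediateField k (AlgebraicClosure k)) (_ : FiniteDimensional k L) (_ : IsGalois k L)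
      (D : U₀.left.Opens) (_ : IsAffineOpen D) (u : extPt sk L ⟶ Over.mk (D.ι ≫ U₀.hom))
      (φ₀ : Po (chartRes a D) u ⟶ x.obj (sob (extProj sk L))),
      𝒵.p.IsHomLift (𝟙 (extPt sk L)) φ₀ := by
  obtain ⟨F, e, he, hP⟩ := ha (Over.mk sk) x
  have hS := (RepOver.property_of_stableBC stableBC_isSurjectiveMor (has (Over.mk sk) x) (F := F.obj) e he).2
  let q : F.obj ⟶ (yon S).obj (Over.mk sk) := AlgSt.spMapOfOver (BasedFunctor.comp e (FibCat.fpFst x a))
  obtain ⟨V, c, hce, hcs⟩ := F.property.atlas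
  obtain ⟨f, hf⟩ := (yon S).map_surjective (c ≫ q)
  have : Smooth f.left := locP_yon_map (hf ▸ locP_comp (IsAlgSpace.yon_obj V) F.property (IsAlgSpace.yon_obj _)
    (locP_mono etale_le_smooth (locP_of_repWith hce)) hP)
  obtain ⟨pt, -⟩ := hS (Points.ofPt (𝟙 _) (IsLocalRing.closedPoint k : (Over.mk sk).left))
  obtain ⟨v, -⟩ := surjective_ofPt hcs pt
  obtain ⟨k', _, _, hfin, hsepk, t, ht, -⟩ :=
    SmoothSecLib.exists_separable_point (f.left : V.left ⟶ Spec (CommRingCat.of k)) ⊤ (x := v) trivial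
  let L := IntermediateField.normalClosure k k' (AlgebraicClosure k)
  have : ∀ g : k' →ₐ[k] AlgebraicClosure k, Algebra.IsSeparable k g.fieldRange := fun g =>
    AlgEquiv.Algebra.isSeparable (AlgEquiv.ofInjectiveField g)
  have : Algebra.IsSeparable k L :=
    IntermediateField.isSeparable_iSup k (AlgebraicClosure k) (t := fun g : k' →ₐ[k] AlgebraicClosure k => g.fieldRange)
  have : IsGalois k L := ⟨⟩
  let ι₀ : k' →ₐ[k] AlgebraicClosure k := IsAlgClosed.lift
  let ι : k' →ₐ[k] L := ι₀.codRestrict L.toSubalgebra fun y => ι₀.fieldRange_le_normalClosure ⟨y, rfl⟩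
  let ρ : extPt sk L ⟶ V := Over.homMk (Spec.map (CommRingCat.ofHom ι.toRingHom) ≫ t) (by
    show (Spec.map _ ≫ t) ≫ V.hom = Spec.map _ ≫ sk
    rw [← Over.w f, Category.assoc, ← Category.assoc t]
    erw [ht]
    rw [← Spec.map_comp_assoc]
    congr 2
    ext y
    exact congrArg Subtype.val (ι.commutes y))
  have hρ : ρ ≫ f = extProj sk L := Over.OverMorphism.ext (by
    show (Spec.map _ ≫ t) ≫ f.left = Spec.map _
    rw [Category.assoc]
    erw [ht]
    rw [← Spec.map_comp]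
    congr 1
    ext y
    exact congrArg Subtype.val (ι.commutes y))
  let Φ := BasedFunctor.comp (overOfMap ((yon S).map ρ ≫ c)) e
  have hk : (yon S).map (extProj sk L) = ((yon S).map ρ ≫ c) ≫ q := by
    rw [Category.assoc, ← hf, ← Functor.map_comp, hρ]
  obtain ⟨u₀, ⟨iu⟩⟩ := GerbFlat.exists_overMap_iso (BasedFunctor.comp Φ (FibCat.fpSnd x a))
  let I : BasedFunctor.comp (AlgSt.overMap u₀) a ≅ BasedFunctor.comp (AlgSt.overMap (extProj sk L)) x :=
    (whiskerRightIso iu a).symm ≪≫ (whiskerLeftIso Φ (FibCat.fpIso x a)).symm ≪≫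
      whiskerRightIso (overMapPullIso ((yon S).map ρ ≫ c) (BasedFunctor.comp e (FibCat.fpFst x a))
        (extProj sk L) hk) x
  obtain ⟨D, hD, huD, -⟩ := exists_isAffineOpen_mem_and_subset (U := (⊤ : U₀.left.Opens))
    (x := u₀.left (IsLocalRing.closedPoint L : (extPt sk L).left)) trivial
  let U : Over S := Over.mk (D.ι ≫ U₀.hom)
  let j : U ⟶ U₀ := Over.homMk D.ι rfl
  let p := chartRes a D
  have hr : Set.range u₀.left ⊆ Set.range D.ι := by
    rintro _ ⟨y, rfl⟩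
    rw [show y = IsLocalRing.closedPoint L from Subsingleton.elim (α := PrimeSpectrum L) _ _,
      Scheme.Opens.range_ι]
    exact huD
  let u : extPt sk L ⟶ U := Over.homMk (IsOpenImmersion.lift D.ι u₀.left hr) (by
    show IsOpenImmersion.lift D.ι u₀.left hr ≫ D.ι ≫ U₀.hom = _
    rw [IsOpenImmersion.lift_fac_assoc]
    exact Over.w u₀)
  have hu : u ≫ j = u₀ := Over.OverMorphism.ext (IsOpenImmersion.lift_fac _ _ _)
  let o : (FibCat.overCat (extPt sk L)).obj := Over.mk (𝟙 (extPt sk L))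
  let i₀ : Po p u ⟶ (BasedFunctor.comp (AlgSt.overMap u₀) a).obj o :=
    Pm a (𝟙 (extPt sk L)) (show 𝟙 _ ≫ 𝟙 _ ≫ u₀ = u ≫ j by rw [hu, Category.id_comp, Category.id_comp])
  have hi₀ : 𝒵.p.IsHomLift (𝟙 (extPt sk L)) i₀ := Pm_lift a _ _
  let i₁ : (BasedFunctor.comp (AlgSt.overMap (extProj sk L)) x).obj o ⟶ x.obj (sob (extProj sk L)) :=
    Pm x (𝟙 (extPt sk L)) (show 𝟙 _ ≫ extProj sk L = 𝟙 _ ≫ extProj sk L from rfl)
  have hi₁ : 𝒵.p.IsHomLift (𝟙 (extPt sk L)) i₁ := Pm_lift x _ _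
  have hI : 𝒵.p.IsHomLift (𝟙 (extPt sk L)) (I.hom.toNatTrans.app o) := I.hom.isHomLift' o
  exact ⟨L, inferInstance, inferInstance, D, hD, u, i₀ ≫ I.hom.toNatTrans.app o ≫ i₁,
    inferInstanceAs (𝒵.p.IsHomLift (𝟙 (extPt sk L)) (_ ≫ _ ≫ _))⟩

/-- Every field point of an etale stack with representable diagonal and a smooth atlas lifts to an affine
smooth chart. -/
theorem exists_chart (hst : Stk.IsStack (QuotSh.J Scheme.etalePrecoverage S) 𝒵)
    (hΔ : AlgSt.RepByAlgSp1 (FibCat.diag (FibCat.toSelf 𝒵))) (hat : AlgSt.HasAtlas (LocP @Smooth) 𝒵)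
    (x : FibCat.overCat (Over.mk sk) ⥤ᵇ 𝒵) :
    ∃ (Z : Over S) (_ : IsAffine Z.left) (z : FibCat.overCat Z ⥤ᵇ 𝒵) (w : Over.mk sk ⟶ Z),
      AlgSt.RepByAlgSpWith (LocP @Smooth) z ∧ Nonempty (BasedFunctor.comp (AlgSt.overMap w) z ≅ x) := by
  obtain ⟨U₀, a, ha, has⟩ := hat
  obtain ⟨L, _, _, D, hD, u, φ₀, hφ₀⟩ := exists_galois_lift sk ha has x
  have : IsAffine (Over.mk (D.ι ≫ U₀.hom)).left := hD
  exact exists_chart_of_galois sk hst hΔ x (chartRes a D) (repByAlgSpWith_chartRes ha D) u φ₀ hφ₀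

end Groth.Agent.AlgStkX.FieldChart
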