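import Groth.Agent.AlgStkX.FieldChart.Elt
import Groth.Agent.AlgStLib.RatPoint
import Groth.Agent.FibBase.FpMaps
import Groth.Agent.StkLib.Basic

/-!
# The space of isomorphisms between pullbacks of a chart
-/

set_option autoImplicit false
set_option backward.isDefEq.respectTransparency false
set_option backward.isDefEq.respectTransparency.types false

universe u

open CategoryTheory CategoryTheory.Functor CategoryTheory.Limits AlgebraicGeometry Opposite AlgSp
open Groth.Agent.FibBase Groth.Agent.AlgStLib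

namespace Groth.Agent.AlgStkX.FieldChart

variable {S : Scheme.{u}} {𝒵 : AlgSt.Cat S} {U : Over S} {p : FibCat.overCat U ⥤ᵇ 𝒵}

theorem overP_map {a b : Over U} (m : a ⟶ b) : (FibCat.overCat U : AlgSt.Cat S).p.map m = m.left := rfl

section Obj

variable {T : Over S} (o : (FibCat.fp p p).obj) (h : (FibCat.fp p p).p.obj o = T)

theorem snd_base : o.obj.snd.left = o.obj.fst.left :=
  (snd_proj (F := p) (G := p) o :)

/-- The first point of an object. -/
abbrev og₁ : T ⟶ U := eqToHom h.symm ≫ o.obj.fst.hom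

/-- The second point of an object. -/
abbrev og₂ : T ⟶ U := eqToHom (h.symm.trans (snd_base o).symm) ≫ o.obj.snd.hom

/-- The normal form on the first component. -/
def n₁ : Over.mk (og₁ o h) ≅ o.obj.fst := Over.isoMk (eqToIso h.symm) rfl

/-- The normal form on the second component. -/
def n₂ : Over.mk (og₂ o h) ≅ o.obj.snd := Over.isoMk (eqToIso (h.symm.trans (snd_base o).symm)) rfl

@[simp] theorem n₁_hom_left : (n₁ o h).hom.left = eqToHom h.symm := rfl

@[simp] theorem n₂_hom_left : (n₂ o h).hom.left = eqToHom (h.symm.trans (snd_base o).symm) := rfl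

@[simp] theorem n₂_inv_left : (n₂ o h).inv.left = eqToHom ((snd_base o).trans h) := rfl

/-- The element attached to an object. -/
def eltOf : Elt p T :=
  ⟨og₁ o h, og₂ o h, p.map (n₁ o h).hom ≫ o.obj.iso.hom ≫ p.map (n₂ o h).inv, by
    have e := map_eq_of_isHomLift_id (p := 𝒵.p) o.property
    refine isHomLift_id_of_map_eq (p.w_obj (Over.mk (og₁ o h))) (p.w_obj (Over.mk (og₂ o h))) ?_
    rw [Functor.map_comp, Functor.map_comp, e, StkLib.w_map, StkLib.w_map]
    simp only [overP_map, n₁_hom_left, n₂_inv_left]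
    simp⟩

/-- Morphisms of objects restrict elements. -/
theorem isPull_eltOf {T' : Over S} {o' : (FibCat.fp p p).obj} (h' : (FibCat.fp p p).p.obj o' = T') (μ : o' ⟶ o)
    (f : T' ⟶ T) (hf : (FibCat.fp p p).p.map μ = eqToHom h' ≫ f ≫ eqToHom h.symm) :
    IsPull f (eltOf o h) (eltOf o' h') := by
  have hfst : μ.hom.fst.left = eqToHom h' ≫ f ≫ eqToHom h.symm := hf
  have hsnd : μ.hom.snd.left = eqToHom ((snd_base o').trans h') ≫ f ≫ eqToHom (h.symm.trans (snd_base o).symm) := by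
    have e : μ.hom.snd.left = eqToHom (snd_base o') ≫ μ.hom.fst.left ≫ eqToHom (snd_base o).symm :=
      IsHomLift.fac' (FibCat.overCat U).p ((FibCat.fp p p).p.map μ) μ.hom.snd
    rw [e, hfst]; simp
  have a₁ : f ≫ og₁ o h = og₁ o' h' := by
    have w := Over.w μ.hom.fst
    rw [hfst] at w
    show f ≫ eqToHom _ ≫ o.obj.fst.hom = eqToHom _ ≫ o'.obj.fst.hom
    rw [← w]; simp
  have a₂ : f ≫ og₂ o h = og₂ o' h' := by
    have w := Over.w μ.hom.snd
    rw [hsnd] at w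
    show f ≫ eqToHom _ ≫ o.obj.snd.hom = eqToHom _ ≫ o'.obj.snd.hom
    rw [← w]; simp
  refine ⟨a₁, a₂, ?_⟩
  have e₁ : (Over.homMk f a₁ : Over.mk (og₁ o' h') ⟶ Over.mk (og₁ o h)) ≫ (n₁ o h).hom =
      (n₁ o' h').hom ≫ μ.hom.fst := Over.OverMorphism.ext (by
    rw [Over.comp_left, Over.comp_left, n₁_hom_left, n₁_hom_left, hfst]
    simp)
  let F₂ : Over.mk (og₂ o' h') ⟶ Over.mk (og₂ o h) := Over.homMk f a₂
  have e₂ : μ.hom.snd ≫ (n₂ o h).inv = (n₂ o' h').inv ≫ F₂ := Over.OverMorphism.ext (by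
    rw [Over.comp_left, Over.comp_left, n₂_inv_left, n₂_inv_left, hsnd]
    simp [F₂])
  show p.map (Over.homMk f a₁) ≫ p.map (n₁ o h).hom ≫ o.obj.iso.hom ≫ p.map (n₂ o h).inv =
    (p.map (n₁ o' h').hom ≫ o'.obj.iso.hom ≫ p.map (n₂ o' h').inv) ≫ p.map F₂
  have w : p.map μ.hom.fst ≫ o.obj.iso.hom = o'.obj.iso.hom ≫ p.map μ.hom.snd := μ.hom.w
  rw [← p.toFunctor.map_comp_assoc, e₁, p.toFunctor.map_comp, Category.assoc, reassoc_of% w,
    ← p.toFunctor.map_comp, e₂, p.toFunctor.map_comp]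
  simp

variable (hZ : FibCat.IsFibGrpd 𝒵.p)
include hZ

theorem Elt.isIso {T : Over S} (a : Elt p T) : IsIso a.hom :=
  have := a.lift
  have := isSC (hp := hZ) (𝟙 T) a.hom
  IsStronglyCartesian.isIso_of_base_isIso 𝒵.p (𝟙 T) a.hom

/-- The object of an element. -/
noncomputable def normObj (a : Elt p T) : (FibCat.fp p p).obj :=
  haveI := Elt.isIso hZ a
  ⟨⟨Over.mk a.g₁, Over.mk a.g₂, asIso a.hom⟩, a.lift⟩

theorem eltOf_normObj (a : Elt p T) : eltOf (normObj hZ a) (rfl : _ = T) = a := by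
  refine IsPull.unique hZ (f := 𝟙 T) (a := a) ?_ (isPull_id a)
  refine ⟨?_, ?_, ?_⟩
  · show 𝟙 T ≫ a.g₁ = 𝟙 T ≫ a.g₁
    rfl
  · show 𝟙 T ≫ a.g₂ = 𝟙 T ≫ a.g₂
    rfl
  · show p.map _ ≫ a.hom = (p.map _ ≫ a.hom ≫ p.map _) ≫ p.map _
    simp only [Category.assoc, ← p.toFunctor.map_comp]
    have e : ∀ {X : Over U} (m : X ⟶ X), m.left = 𝟙 _ → p.map m = 𝟙 _ := fun m hm => by
      rw [show m = 𝟙 _ from Over.OverMorphism.ext hm, p.toFunctor.map_id]
    refine ((congrArg (· ≫ a.hom) (e _ rfl)).trans (Category.id_comp _)).trans ?_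
    refine Eq.trans ?_ (congrArg₂ (fun x y => x ≫ a.hom ≫ y) (e _ rfl) (e _ ?_)).symm
    · exact ((Category.id_comp _).trans (Category.comp_id _)).symm
    · exact (congrArg (· ≫ _) (n₂_inv_left _ _)).trans (Category.id_comp _)

/-- An object is isomorphic to the normal form of its element. -/
theorem exists_norm_iso :
    ∃ i : normObj hZ (eltOf o h) ≅ o, (FibCat.fp p p).p.map i.hom = eqToHom h.symm := by
  haveI := Elt.isIso hZ (eltOf o h)
  refine ⟨fpIsoMk (x := normObj hZ (eltOf o h)) (y := o) (n₁ o h) (n₂ o h) ?_, rfl⟩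
  show p.map (n₁ o h).hom ≫ o.obj.iso.hom =
    (p.map (n₁ o h).hom ≫ o.obj.iso.hom ≫ p.map (n₂ o h).inv) ≫ p.map (n₂ o h).hom
  rw [Category.assoc, Category.assoc, ← p.toFunctor.map_comp, Iso.inv_hom_id, p.toFunctor.map_id, Category.comp_id]

end Obj

variable (p) in
/-- The space of elements. -/
structure IsoSpace (hZ : FibCat.IsFibGrpd 𝒵.p) where
  F : Sp S
  isAlgSpace : IsAlgSpace F
  elt : ∀ {T : Over S}, ((yon S).obj T ⟶ F) → Elt p T
  elt_comp : ∀ {T' T : Over S} (f : T' ⟶ T) (ξ : (yon S).obj T ⟶ F),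
    elt ((yon S).map f ≫ ξ) = pull hZ f (elt ξ)
  bij : ∀ T : Over S, Function.Bijective (elt (T := T))
  src : F ⟶ (yon S).obj U
  comp_src : ∀ {T : Over S} (ξ : (yon S).obj T ⟶ F), ξ ≫ src = (yon S).map (elt ξ).g₁
  smooth : LocP @Smooth src

theorem exists_isoSpace (hZ : FibCat.IsFibGrpd 𝒵.p) (hp : AlgSt.RepByAlgSpWith (LocP @Smooth) p) :
    Nonempty (IsoSpace p hZ) := by
  obtain ⟨F, e, hE, hP⟩ := hp U p
  haveI := full_of_isEquivOver hE
  obtain ⟨G, -, ⟨j⟩⟩ := hE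
  let el : ∀ a : (AlgSt.ofSp F.obj).obj, Elt p a.base := fun a => eltOf (e.obj a) (e.w_obj a)
  have hel : ∀ {a' a : (AlgSt.ofSp F.obj).obj} (ψ : a' ⟶ a), el a' = pull hZ ψ.hom (el a) := fun ψ =>
    (pull_eq hZ (isPull_eltOf _ _ _ (e.map ψ) ψ.hom (StkLib.w_map e ψ))).symm
  let E : ∀ T : Over S, ((yon S).obj T ⟶ F.obj) → Elt p T := fun T ξ =>
    el (⟨T, (AlgSp.J S).uliftYonedaEquiv ξ⟩ : Stk.EltObj F.obj.obj)
  refine ⟨⟨F.obj, F.property, fun {T} => E T, fun f ξ => ?_, fun T => ⟨fun ξ ξ' hξ => ?_, fun b => ?_⟩,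
    AlgSt.spMapOfOver (BasedFunctor.comp e (FibCat.fpFst p p)), fun {T} ξ => ?_, hP⟩⟩
  · exact hel (⟨f, (AlgSp.J S).uliftYonedaEquiv_naturality ξ f⟩ :
      (⟨_, (AlgSp.J S).uliftYonedaEquiv ((yon S).map f ≫ ξ)⟩ : Stk.EltObj F.obj.obj) ⟶ ⟨_, (AlgSp.J S).uliftYonedaEquiv ξ⟩)
  · let a : Stk.EltObj F.obj.obj := ⟨T, (AlgSp.J S).uliftYonedaEquiv ξ⟩
    let a' : Stk.EltObj F.obj.obj := ⟨T, (AlgSp.J S).uliftYonedaEquiv ξ'⟩
    obtain ⟨i, hi⟩ := exists_norm_iso (e.obj a) (e.w_obj a) hZ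
    obtain ⟨i', hi'⟩ := exists_norm_iso (e.obj a') (e.w_obj a') hZ
    let m : e.obj a ⟶ e.obj a' := i.inv ≫ eqToHom (congrArg (normObj hZ) hξ) ≫ i'.hom
    obtain ⟨ψ, hψ⟩ := e.toFunctor.map_surjective m
    have hψ1 : ψ.hom = 𝟙 T := by
      have hinv : (FibCat.fp p p).p.map i.inv = eqToHom (e.w_obj a) := by
        rw [← cancel_epi ((FibCat.fp p p).p.map i.hom)]
        refine ((Functor.map_comp _ _ _).symm.trans (congrArg _ i.hom_inv_id)).trans ?_
        refine ((FibCat.fp p p).p.map_id _).trans ?_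
        rw [hi, eqToHom_trans]
        rfl
      have hm : (FibCat.fp p p).p.map m = eqToHom ((e.w_obj a).trans (e.w_obj a').symm) := by
        refine (Functor.map_comp _ _ _).trans ((congrArg₂ (fun x y => x ≫ y) hinv ((Functor.map_comp _ _ _).trans
          (congrArg₂ (fun x y => x ≫ y) (eqToHom_map _ _) hi'))).trans ?_)
        exact (congrArg (_ ≫ ·) (eqToHom_trans _ _)).trans (eqToHom_trans _ _)
      have h2 : eqToHom (e.w_obj a) ≫ ψ.hom ≫ eqToHom (e.w_obj a').symm =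
          eqToHom (e.w_obj a) ≫ 𝟙 T ≫ eqToHom (e.w_obj a').symm := by
        refine ((StkLib.w_map e ψ).symm.trans ((congrArg _ hψ).trans hm)).trans (Eq.trans ?_
          (congrArg (eqToHom (e.w_obj a) ≫ ·) (Category.id_comp _)).symm)
        exact (eqToHom_trans _ _).symm
      rwa [cancel_epi, cancel_mono] at h2
    apply (AlgSp.J S).uliftYonedaEquiv.injective
    have h := ψ.map_sec
    rw [hψ1, op_id, CategoryTheory.Functor.map_id_apply] at h
    exact h.symm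
  · let o := normObj hZ b
    let a := G.obj o
    let μ : e.obj a ⟶ o := j.hom.toNatTrans.app o
    have hb : a.base = T := G.w_obj o
    let a' : Stk.EltObj F.obj.obj := ⟨T, F.obj.obj.map (eqToHom hb.symm).op a.sec⟩
    let ψ : a' ⟶ a := ⟨eqToHom hb.symm, rfl⟩
    refine ⟨(AlgSp.J S).uliftYonedaEquiv.symm a'.sec, ?_⟩
    have h1 : E T ((AlgSp.J S).uliftYonedaEquiv.symm a'.sec) = el a' := by
      let elT : F.obj.obj.obj (op T) → Elt p T := fun s => el ⟨T, s⟩
      exact congrArg elT (Equiv.apply_symm_apply _ _)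
    rw [h1]
    have hμ := map_eq_of_isHomLift_id (p := (FibCat.fp p p).p) (BasedNatTrans.isHomLift j.hom (a := o) rfl)
    have h := isPull_eltOf o (rfl : _ = T) (e.w_obj a') (e.map ψ ≫ μ) (𝟙 T) (by
      rw [Functor.map_comp, StkLib.w_map e ψ, hμ]
      simp [ψ]
      exact (Category.comp_id _).symm)
    rw [eltOf_normObj] at h
    exact h.unique hZ (isPull_id b)
  · show ξ ≫ _ = (yon S).map (og₁ _ (e.w_obj (⟨T, (AlgSp.J S).uliftYonedaEquiv ξ⟩ : Stk.EltObj F.obj.obj)))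
    conv_lhs => rw [← (AlgSp.J S).uliftYonedaEquiv.symm_apply_apply ξ]
    exact RatPt.symm_comp_spMapOfOver _ _ _ rfl

end Groth.Agent.AlgStkX.FieldChart
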