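import Groth.Agent.AlgStkX.FieldChart.Graph
import Groth.Agent.AlgStkX.FieldChart.Space

/-!
# Descent data from cocycles along a free action
-/

set_option autoImplicit false
set_option backward.isDefEq.respectTransparency false
set_option backward.isDefEq.respectTransparency.types false

universe u

open CategoryTheory CategoryTheory.Limits AlgebraicGeometry AlgSp
open Groth.Agent.AlgSpDec

namespace Groth.Agent.AlgStkX.FieldChart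

variable {S : Scheme.{u}} {O Z : Over S} {π : O ⟶ Z} {G : Type u} {ρ : G → (O ⟶ O)} {F : Sp S}

/-- Maps out of a scheme agree if they agree where a pair of points lies on a graph. -/
theorem Graph.hom_ext (gr : Graph π ρ) {T : Over S} (y₁ y₂ : T ⟶ O) (h : y₁ ≫ π = y₂ ≫ π)
    (a b : (yon S).obj T ⟶ F)
    (hab : ∀ {T' : Over S} (f : T' ⟶ T) (σ : G), f ≫ y₂ = (f ≫ y₁) ≫ ρ σ → (yon S).map f ≫ a = (yon S).map f ≫ b) :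
    a = b := by
  obtain ⟨r, hr₁, hr₂⟩ := gr.lift y₁ y₂ h
  have := gr.iso
  let r' : T ⟶ sigmaOver (fun _ : G => O) := r ≫ inv gr.κ
  let W : G → T.left.Opens := fun σ => r'.left ⁻¹ᵁ (sigmaι (fun _ : G => O) σ).left.opensRange
  have hcov : TopologicalSpace.IsOpenCover W := TopologicalSpace.Opens.ext (Set.eq_univ_of_forall fun x => by
    obtain ⟨σ, v, hv⟩ := exists_sigmaι (fun _ : G => O) (r'.left x)
    exact TopologicalSpace.Opens.mem_iSup.2 ⟨σ, ⟨v, hv⟩⟩)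
  refine hom_ext_of_openCover (T.left.openCoverOfIsOpenCover W hcov) a b fun σ => ?_
  let f : Over.mk ((W σ).ι ≫ T.hom) ⟶ T := Over.homMk (W σ).ι rfl
  refine hab f σ ?_
  have hrange : Set.range ((W σ).ι ≫ r'.left) ⊆ Set.range (sigmaι (fun _ : G => O) σ).left := by
    rintro _ ⟨x, rfl⟩
    exact x.2
  let z₀ := IsOpenImmersion.lift (sigmaι (fun _ : G => O) σ).left _ hrange
  have hz₀ : z₀ ≫ (sigmaι (fun _ : G => O) σ).left = (W σ).ι ≫ r'.left := IsOpenImmersion.lift_fac _ _ _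
  let z : Over.mk ((W σ).ι ≫ T.hom) ⟶ O := Over.homMk z₀ (by
    show z₀ ≫ O.hom = (W σ).ι ≫ T.hom
    rw [← Over.w (sigmaι (fun _ : G => O) σ), reassoc_of% hz₀, Over.w r'])
  have hz : z ≫ sigmaι (fun _ : G => O) σ ≫ gr.κ = f ≫ r := by
    have e : z ≫ sigmaι (fun _ : G => O) σ = f ≫ r' := Over.OverMorphism.ext hz₀
    rw [reassoc_of% e, Category.assoc, IsIso.inv_hom_id, Category.comp_id]
  rw [← hr₁, ← hr₂, ← Category.assoc, ← Category.assoc, ← hz]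
  simp only [Category.assoc, gr.κ₁, gr.κ₂]
  exact (congrArg (z ≫ ·) (Category.id_comp _)).symm

/-- A family on the graphs glues. -/
theorem Graph.exists_glue (gr : Graph π ρ) (ξ : G → ((yon S).obj O ⟶ F)) :
    ∃ ξK : (yon S).obj gr.K ⟶ F, ∀ g, (yon S).map (sigmaι (fun _ : G => O) g ≫ gr.κ) ≫ ξK = ξ g := by
  obtain ⟨X, hX⟩ := exists_hom_sigma (fun _ : G => O) ξ
  have := gr.iso
  refine ⟨(yon S).map (inv gr.κ) ≫ X, fun g => ?_⟩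
  rw [← Functor.map_comp_assoc, Category.assoc, IsIso.hom_inv_id, Category.comp_id, hX]

variable {𝒵 : AlgSt.Cat S} {U : Over S} {p : FibCat.overCat U ⥤ᵇ 𝒵} {hZ : FibCat.IsFibGrpd 𝒵.p}

/-- Natural families of elements which agree on the graphs agree. -/
theorem Graph.elt_ext (gr : Graph π ρ) (Φ : IsoSpace p hZ) {T : Over S} (y₁ y₂ : T ⟶ O) (h : y₁ ≫ π = y₂ ≫ π)
    (a b : Elt p T)
    (hab : ∀ {T' : Over S} (f : T' ⟶ T) (σ : G), f ≫ y₂ = (f ≫ y₁) ≫ ρ σ → pull hZ f a = pull hZ f b) : a = b := by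
  obtain ⟨α, rfl⟩ := (Φ.bij T).2 a
  obtain ⟨β, rfl⟩ := (Φ.bij T).2 b
  refine congrArg Φ.elt (gr.hom_ext y₁ y₂ h α β fun {T'} f σ hf => (Φ.bij T').1 ?_)
  rw [Φ.elt_comp, Φ.elt_comp]
  exact hab f σ hf

/-- A cocycle on the graphs gives a descent datum. -/
theorem Graph.exists_theta [Group G] (gr : Graph π ρ) (Φ : IsoSpace p hZ) (g : O ⟶ U) (e : G → Elt p O)
    (hρ : ∀ σ τ, ρ (σ * τ) = ρ σ ≫ ρ τ) (he₁ : ∀ σ, (e σ).g₁ = g) (he₂ : ∀ σ, (e σ).g₂ = ρ σ ≫ g)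
    (hem : ∀ σ τ, IsMul (e σ) (pull hZ (ρ σ) (e τ)) (e (σ * τ))) :
    ∃ θ : ∀ {T : Over S} (y₁ y₂ : T ⟶ O), y₁ ≫ π = y₂ ≫ π → Elt p T,
      (∀ {T : Over S} (y₁ y₂ : T ⟶ O) (h : y₁ ≫ π = y₂ ≫ π), (θ y₁ y₂ h).g₁ = y₁ ≫ g) ∧
      (∀ {T : Over S} (y₁ y₂ : T ⟶ O) (h : y₁ ≫ π = y₂ ≫ π), (θ y₁ y₂ h).g₂ = y₂ ≫ g) ∧
      (∀ {T' T : Over S} (f : T' ⟶ T) (y₁ y₂ : T ⟶ O) (h : y₁ ≫ π = y₂ ≫ π),
        IsPull f (θ y₁ y₂ h) (θ (f ≫ y₁) (f ≫ y₂) (by rw [Category.assoc, h, Category.assoc]))) ∧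
      (∀ {T : Over S} (y₁ y₂ y₃ : T ⟶ O) (h₁ : y₁ ≫ π = y₂ ≫ π) (h₂ : y₂ ≫ π = y₃ ≫ π),
        IsMul (θ y₁ y₂ h₁) (θ y₂ y₃ h₂) (θ y₁ y₃ (h₁.trans h₂))) ∧
      ∀ {T : Over S} (y₁ y₂ : T ⟶ O) (h : y₁ ≫ π = y₂ ≫ π) (σ : G), y₂ = y₁ ≫ ρ σ →
        θ y₁ y₂ h = pull hZ y₁ (e σ) := by
  choose ξ hξ using fun σ => (Φ.bij O).2 (e σ)
  obtain ⟨ξK, hK⟩ := gr.exists_glue ξ
  let E : Elt p gr.K := Φ.elt ξK
  have hE : ∀ σ, pull hZ (sigmaι (fun _ : G => O) σ ≫ gr.κ) E = e σ := fun σ => by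
    rw [← hξ σ, ← hK σ, Φ.elt_comp]
  have := gr.iso
  have hE₁ : E.g₁ = gr.p₁ ≫ g := (cancel_epi gr.κ).1 (Over.OverMorphism.ext (Sigma.hom_ext _ _ fun σ => by
    have h := congrArg Elt.g₁ (hE σ)
    rw [pull_g₁, he₁] at h
    have h' : sigmaι (fun _ : G => O) σ ≫ gr.κ ≫ E.g₁ = sigmaι (fun _ : G => O) σ ≫ gr.κ ≫ gr.p₁ ≫ g := by
      rw [← Category.assoc, h, reassoc_of% (gr.κ₁ σ)]
    exact congrArg (fun m : O ⟶ U => m.left) h'))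
  have hE₂ : E.g₂ = gr.p₂ ≫ g := (cancel_epi gr.κ).1 (Over.OverMorphism.ext (Sigma.hom_ext _ _ fun σ => by
    have h := congrArg Elt.g₂ (hE σ)
    rw [pull_g₂, he₂] at h
    have h' : sigmaι (fun _ : G => O) σ ≫ gr.κ ≫ E.g₂ = sigmaι (fun _ : G => O) σ ≫ gr.κ ≫ gr.p₂ ≫ g := by
      rw [← Category.assoc, h, reassoc_of% (gr.κ₂ σ)]
    exact congrArg (fun m : O ⟶ U => m.left) h'))
  choose r hr₁ hr₂ using fun (T : Over S) (y₁ y₂ : T ⟶ O) (h : y₁ ≫ π = y₂ ≫ π) => gr.lift y₁ y₂ h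
  let θ : ∀ {T : Over S} (y₁ y₂ : T ⟶ O), y₁ ≫ π = y₂ ≫ π → Elt p T := fun {T} y₁ y₂ h => pull hZ (r T y₁ y₂ h) E
  have hloc : ∀ {T : Over S} (y₁ y₂ : T ⟶ O) (h : y₁ ≫ π = y₂ ≫ π) (σ : G), y₂ = y₁ ≫ ρ σ →
      θ y₁ y₂ h = pull hZ y₁ (e σ) := fun {T} y₁ y₂ h σ hy => by
    show pull hZ (r T y₁ y₂ h) E = _
    rw [← hE σ, pull_pull]
    refine congrArg (fun m => pull hZ m E) (gr.ext _ _ ?_ ?_)
    · rw [hr₁, Category.assoc, Category.assoc, gr.κ₁, Category.comp_id]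
    · rw [hr₂, Category.assoc, Category.assoc, gr.κ₂, hy]
  have hnat : ∀ {T' T : Over S} (f : T' ⟶ T) (y₁ y₂ : T ⟶ O) (h : y₁ ≫ π = y₂ ≫ π) (x₁ x₂ : T' ⟶ O)
      (e₁ : f ≫ y₁ = x₁) (e₂ : f ≫ y₂ = x₂),
      pull hZ f (θ y₁ y₂ h) = θ x₁ x₂ (by rw [← e₁, ← e₂, Category.assoc, h, Category.assoc]) :=
    fun f y₁ y₂ h x₁ x₂ e₁ e₂ => by
      show pull hZ f (pull hZ (r _ y₁ y₂ h) E) = pull hZ (r _ x₁ x₂ _) E
      rw [pull_pull]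
      refine congrArg (fun m => pull hZ m E) (gr.ext _ _ ?_ ?_)
      · rw [Category.assoc, hr₁, hr₁, e₁]
      · rw [Category.assoc, hr₂, hr₂, e₂]
  refine ⟨θ, fun y₁ y₂ h => ?_, fun y₁ y₂ h => ?_, fun f y₁ y₂ h => ?_, fun {T} y₁ y₂ y₃ h₁ h₂ => ?_, hloc⟩
  · show (pull hZ _ E).g₁ = _
    rw [pull_g₁, hE₁, ← Category.assoc, hr₁]
  · show (pull hZ _ E).g₂ = _
    rw [pull_g₂, hE₂, ← Category.assoc, hr₂]
  · show IsPull f (θ y₁ y₂ h) (θ (f ≫ y₁) (f ≫ y₂) _)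
    rw [← hnat f y₁ y₂ h _ _ rfl rfl]
    exact isPull_pull hZ f _
  · obtain ⟨d, hd⟩ := exists_isMul (θ y₁ y₂ h₁) (θ y₂ y₃ h₂) (by
      show (pull hZ _ E).g₂ = (pull hZ _ E).g₁
      rw [pull_g₁, pull_g₂, hE₁, hE₂, ← Category.assoc, ← Category.assoc, hr₁, hr₂])
    suffices e' : θ y₁ y₃ (h₁.trans h₂) = d by
      show IsMul (θ y₁ y₂ h₁) (θ y₂ y₃ h₂) (θ y₁ y₃ (h₁.trans h₂))
      rwa [e']
    refine gr.elt_ext Φ y₁ y₂ h₁ _ _ fun {T'} f σ hσ => ?_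
    refine gr.elt_ext Φ (f ≫ y₂) (f ≫ y₃) (by rw [Category.assoc, h₂, Category.assoc]) _ _ fun {T''} f' τ hτ => ?_
    refine (pull_pull hZ f' f _).trans (Eq.trans ?_ (pull_pull hZ f' f d).symm)
    have hm := hd.pull hZ (f' ≫ f)
    rw [hnat _ y₁ y₂ h₁ _ _ rfl rfl, hnat _ y₂ y₃ h₂ _ _ rfl rfl] at hm
    have e₂ : (f' ≫ f) ≫ y₂ = ((f' ≫ f) ≫ y₁) ≫ ρ σ := by rw [Category.assoc, hσ]; simp
    have e₃ : (f' ≫ f) ≫ y₃ = ((f' ≫ f) ≫ y₂) ≫ ρ τ := by rw [Category.assoc, hτ]; simp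
    rw [hloc _ _ _ σ e₂, hloc _ _ _ τ e₃, e₂, ← pull_pull hZ ((f' ≫ f) ≫ y₁) (ρ σ)] at hm
    rw [hnat _ y₁ y₃ (h₁.trans h₂) _ _ rfl rfl,
      hloc _ _ _ (σ * τ) (by rw [e₃, e₂, hρ, ← Category.assoc, Category.assoc _ (ρ σ)])]
    exact ((hem σ τ).pull hZ ((f' ≫ f) ≫ y₁)).unique hm

end Groth.Agent.AlgStkX.FieldChart
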