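import Groth.Agent.AlgStkX.FieldChart.Galois
import Groth.Agent.AlgStkX.FieldChart.Theta
import Groth.Agent.AlgStkX.HensLift

/-!
# A field point is determined by its Galois descent datum
-/

set_option autoImplicit false
set_option backward.isDefEq.respectTransparency false
set_option backward.isDefEq.respectTransparency.types false

universe u

open CategoryTheory CategoryTheory.Functor AlgebraicGeometry AlgSp
open Groth.Agent.FibBase Groth.Agent.AlgSpDec Groth.Agent.AlgStLib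

namespace Groth.Agent.AlgStkX.FieldChart

variable {S : Scheme.{u}} {k L : Type u} [Field k] [Field L] [Algebra k L] (sk : Spec (CommRingCat.of k) ⟶ S)
  {𝒵 : AlgSt.Cat S} {U : Over S} (p : FibCat.overCat U ⥤ᵇ 𝒵) (hZ : FibCat.IsFibGrpd 𝒵.p)

/-- `e` is the descent datum of the point `x` along a lift to the chart `p`. -/
def HasDatum (x : FibCat.overCat (Over.mk sk) ⥤ᵇ 𝒵) (u : extPt sk L ⟶ U)
    (e : (L ≃ₐ[k] L) → Elt p (extPt sk L)) : Prop :=
  ∃ (Φb : ∀ {T : Over S} (b : T ⟶ extPt sk L), Po p (b ≫ u) ⟶ x.obj (sob (b ≫ extProj sk L)))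
    (θx : ∀ {T : Over S} (b b' : T ⟶ extPt sk L), b ≫ extProj sk L = b' ≫ extProj sk L → Elt p T),
    (∀ {T : Over S} (b : T ⟶ extPt sk L), 𝒵.p.IsHomLift (𝟙 T) (Φb b)) ∧
    (∀ {T' T : Over S} (f : T' ⟶ T) (b : T ⟶ extPt sk L) (b' : T' ⟶ extPt sk L) (_ : f ≫ b = b'),
      IsRes f (Φb b) (Φb b')) ∧
    (∀ {T : Over S} (b b' : T ⟶ extPt sk L) (h : b ≫ extProj sk L = b' ≫ extProj sk L),
      (θx b b' h).g₁ = b ≫ u ∧ (θx b b' h).g₂ = b' ≫ u) ∧
    (∀ {T : Over S} (b b' : T ⟶ extPt sk L) (h : b ≫ extProj sk L = b' ≫ extProj sk L)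
      (a₁ : (θx b b' h).g₁ = b ≫ u) (a₂ : (θx b b' h).g₂ = b' ≫ u),
      (θx b b' h).arr a₁ a₂ ≫ Φb b' = Φb b ≫ eqToHom (congrArg (fun c => x.obj (sob c)) h)) ∧
    (∀ {T' T : Over S} (f : T' ⟶ T) (b b' : T ⟶ extPt sk L) (h : b ≫ extProj sk L = b' ≫ extProj sk L)
      (c c' : T' ⟶ extPt sk L) (hc : f ≫ b = c) (hc' : f ≫ b' = c'),
      pull hZ f (θx b b' h) = θx c c' (by rw [← hc, ← hc', Category.assoc, h, Category.assoc])) ∧
    ∀ σ, θx (𝟙 _) (galAct sk σ) (by rw [galAct_proj, Category.id_comp]) = e σ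

theorem exists_hasDatum (x : FibCat.overCat (Over.mk sk) ⥤ᵇ 𝒵) (u : extPt sk L ⟶ U)
    (φ₀ : Po p u ⟶ x.obj (sob (extProj sk L))) (hφ₀ : 𝒵.p.IsHomLift (𝟙 (extPt sk L)) φ₀) :
    ∃ e, HasDatum sk p hZ x u e := by
  obtain ⟨Φb, hΦb, hΦn⟩ := exists_restrictions hZ (extProj sk L) u φ₀ hφ₀
  obtain ⟨θx, hx₁, hx₂, hxn, -, hxa⟩ := exists_pointDatum hZ (extProj sk L) u Φb hΦb hΦn
  exact ⟨_, Φb, θx, hΦb, hΦn, fun b b' h => ⟨hx₁ b b' h, hx₂ b b' h⟩, hxa, hxn, fun σ => rfl⟩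

variable {sk p hZ} [FiniteDimensional k L] [IsGalois k L]

/-- Points with the same descent datum are isomorphic. -/
theorem iso_of_hasDatum (hst : Stk.IsStack (QuotSh.J Scheme.etalePrecoverage S) 𝒵) (Φ : IsoSpace p hZ)
    {x x' : FibCat.overCat (Over.mk sk) ⥤ᵇ 𝒵} {u : extPt sk L ⟶ U} {e : (L ≃ₐ[k] L) → Elt p (extPt sk L)}
    (h : HasDatum sk p hZ x u e) (h' : HasDatum sk p hZ x' u e) : Nonempty (x' ≅ x) := by
  obtain ⟨Φb, θx, hΦb, hΦn, hxg, hxa, hxn, hxe⟩ := h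
  obtain ⟨Ψb, θy, hΨb, hΨn, hyg, hya, hyn, hye⟩ := h'
  have hiso : ∀ {T : Over S} (b : T ⟶ extPt sk L), IsIso (Ψb b) := by
    intro T b
    have := hΨb b
    have := isSC (hp := hZ) (𝟙 T) (Ψb b)
    exact IsStronglyCartesian.isIso_of_base_isIso 𝒵.p (𝟙 T) (Ψb b)
  let ι : BasedFunctor.comp (AlgSt.overMap (extProj sk L)) x' ≅ BasedFunctor.comp (AlgSt.overMap u) p :=
    BasedNatIso.mkNatIso
      (NatIso.ofComponents (fun a => (@asIso _ _ _ _ (Ψb a.hom) (hiso a.hom)).symm)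
        (fun {a b} m => by
          have := hiso a.hom
          have := hiso b.hom
          obtain ⟨a₁, a₂, -, eu⟩ := hΨn m.left b.hom a.hom (Over.w m)
          show x'.map ((Over.map (extProj sk L)).map m) ≫ inv (Ψb b.hom) = inv (Ψb a.hom) ≫ p.map ((Over.map u).map m)
          rw [IsIso.comp_inv_eq, Category.assoc, IsIso.eq_inv_comp]
          exact eu.symm))
      (fun a => by
        have := hiso a.hom
        have : 𝒵.p.IsHomLift (𝟙 a.left) (@asIso _ _ _ _ (Ψb a.hom) (hiso a.hom)).hom := hΨb a.hom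
        exact IsHomLift.lift_id_inv 𝒵.p a.left (@asIso _ _ _ _ (Ψb a.hom) (hiso a.hom)))
  have hι : ∀ {T : Over S} (y₁ y₂ : T ⟶ extPt sk L) (h : y₁ ≫ extProj sk L = y₂ ≫ extProj sk L),
      ι.hom.toNatTrans.app (sob y₁) ≫ (θy y₁ y₂ h).arr (hyg y₁ y₂ h).1 (hyg y₁ y₂ h).2 =
        eqToHom (congrArg (fun f => x'.obj (sob f)) h) ≫ ι.hom.toNatTrans.app (sob y₂) := by
    intro T y₁ y₂ h
    have := hiso y₁
    have := hiso y₂
    show inv (Ψb y₁) ≫ _ = eqToHom _ ≫ inv (Ψb y₂)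
    rw [IsIso.inv_comp_eq, ← Category.assoc, IsIso.eq_comp_inv]
    exact hya y₁ y₂ h _ _
  obtain ⟨hqe, hqs⟩ := etale_extProj (k := k) (L := L) sk
  obtain ⟨grL⟩ := exists_graph (G := L ≃ₐ[k] L) (B := k) (fun σ hσ => by
      obtain ⟨b, hb⟩ : ∃ b : L, σ b ≠ b := by
        by_contra hc
        exact hσ (AlgEquiv.ext fun b => not_not.1 fun h => hc ⟨b, h⟩)
      exact Ideal.eq_top_of_isUnit_mem _ (Ideal.subset_span ⟨b, rfl⟩)
        (isUnit_iff_ne_zero.2 (sub_ne_zero.2 (Ne.symm hb))))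
    (extProj sk L) (Iso.refl _) (Iso.refl _) (by simp) (galAct sk) (fun σ => by simp)
  have hθ : ∀ {T : Over S} (b b' : T ⟶ extPt sk L) (h : b ≫ extProj sk L = b' ≫ extProj sk L),
      θy b b' h = θx b b' h := fun b b' h => by
    refine grL.elt_ext Φ b b' h _ _ fun {T'} f σ hσ => ?_
    rw [hxn f b b' h _ _ rfl rfl, hyn f b b' h _ _ rfl rfl]
    rw [← hxn (f ≫ b) (𝟙 _) (galAct sk σ) (by rw [galAct_proj, Category.id_comp]) _ _ (Category.comp_id _) hσ.symm,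
      ← hyn (f ≫ b) (𝟙 _) (galAct sk σ) (by rw [galAct_proj, Category.id_comp]) _ _ (Category.comp_id _) hσ.symm,
      hxe, hye]
  obtain ⟨i⟩ := exists_point_iso hst (extProj sk L) u θy (fun y₁ y₂ h => (hyg y₁ y₂ h).1)
    (fun y₁ y₂ h => (hyg y₁ y₂ h).2) ι hι (extProj sk L) (𝟙 _) (𝟙 _) (by simp) x u (Category.id_comp u)
    Φb hΦb hΦn θx (fun b b' h => by
      have key : ∀ {T : Over S} (c c' d d' : T ⟶ extPt sk L) (e₁ : c = d) (e₂ : c' = d')
          (hc : c ≫ extProj sk L = c' ≫ extProj sk L) (hd : d ≫ extProj sk L = d' ≫ extProj sk L),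
          θy c c' hc = θy d d' hd := by
        rintro T c c' _ _ rfl rfl hc hd; rfl
      rw [key _ _ b b' (Category.comp_id b) (Category.comp_id b') _ h, hθ]) hxa
  exact ⟨(whiskerRightIso (HensLift.overMapIdIso _) x').symm ≪≫ i⟩

end Groth.Agent.AlgStkX.FieldChart
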