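import Groth.Agent.AlgStkX.FieldChart.Elt
import Groth.Agent.AlgSpDec.EtaleSheafCover
import Groth.Agent.StkLib.Basic
import Groth.Prelude.Def_AlgSt3

/-!
# Gluing the chart along an étale covering with a descent datum
-/

set_option autoImplicit false
set_option backward.isDefEq.respectTransparency false
set_option backward.isDefEq.respectTransparency.types false

universe u

open CategoryTheory CategoryTheory.Functor AlgebraicGeometry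
open Groth.Agent.FibBase

namespace Groth.Agent.AlgStkX.FieldChart

variable {S : Scheme.{u}} {𝒵 : AlgSt.Cat S} {U : Over S} {p : FibCat.overCat U ⥤ᵇ 𝒵}

/-- The morphism of an element with prescribed endpoints. -/
def Elt.arr {T : Over S} (a : Elt p T) {x y : T ⟶ U} (h₁ : a.g₁ = x) (h₂ : a.g₂ = y) : Po p x ⟶ Po p y :=
  Pm p (𝟙 T) ((Category.id_comp _).trans h₁) ≫ a.hom ≫ Pm p (𝟙 T) ((Category.id_comp _).trans h₂.symm)

theorem Elt.arr_mk {T : Over S} {x y : T ⟶ U} (φ : Po p x ⟶ Po p y) (hφ : 𝒵.p.IsHomLift (𝟙 T) φ) :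
    (⟨x, y, φ, hφ⟩ : Elt p T).arr rfl rfl = φ := by
  show Pm p (𝟙 T) _ ≫ φ ≫ Pm p (𝟙 T) _ = φ
  rw [Pm_id, Pm_id, Category.id_comp, Category.comp_id]

theorem Elt.arr_lift {T : Over S} (a : Elt p T) {x y : T ⟶ U} (h₁ : a.g₁ = x) (h₂ : a.g₂ = y) :
    𝒵.p.IsHomLift (𝟙 T) (a.arr h₁ h₂) := by
  subst h₁ h₂
  rw [Elt.arr_mk]
  exact a.lift

theorem Elt.arr_one {T : Over S} (x : T ⟶ U) : (Elt.one x : Elt p T).arr rfl rfl = 𝟙 _ := Elt.arr_mk _ _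

theorem IsMul.arr {T : Over S} {a b c : Elt p T} (h : IsMul a b c) {x y z : T ⟶ U} (a₁ : a.g₁ = x) (a₂ : a.g₂ = y)
    (b₁ : b.g₁ = y) (b₂ : b.g₂ = z) (c₁ : c.g₁ = x) (c₂ : c.g₂ = z) :
    a.arr a₁ a₂ ≫ b.arr b₁ b₂ = c.arr c₁ c₂ := by
  obtain ⟨g₁, g₂, φ, hφ⟩ := a
  obtain ⟨g₂', g₃, ψ, hψ⟩ := b
  obtain ⟨g₁', g₃', χ, hχ⟩ := c
  dsimp only at a₁ a₂ b₁ b₂ c₁ c₂
  subst a₁ a₂ b₂ b₁ c₁ c₂
  rw [Elt.arr_mk, Elt.arr_mk, Elt.arr_mk, isMul_mk_iff.1 h]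

theorem IsPull.arr {T' T : Over S} {f : T' ⟶ T} {a : Elt p T} {b : Elt p T'} (h : IsPull f a b) {x y : T ⟶ U}
    {x' y' : T' ⟶ U} (a₁ : a.g₁ = x) (a₂ : a.g₂ = y) (b₁ : b.g₁ = x') (b₂ : b.g₂ = y') (hx : f ≫ x = x')
    (hy : f ≫ y = y') : Pm p f hx ≫ a.arr a₁ a₂ = b.arr b₁ b₂ ≫ Pm p f hy := by
  obtain ⟨g₁, g₂, φ, hφ⟩ := a
  obtain ⟨g₁', g₂', ψ, hψ⟩ := b
  dsimp only at a₁ a₂ b₁ b₂
  subst a₁ a₂ b₁ b₂
  rw [Elt.arr_mk, Elt.arr_mk]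
  exact h.2.2

/-- An object of the slice. -/
abbrev sob {Z T : Over S} (f : T ⟶ Z) : (FibCat.overCat Z : AlgSt.Cat S).obj := Over.mk f

variable (hst : Stk.IsStack (QuotSh.J Scheme.etalePrecoverage S) 𝒵)

include hst

/-- A descent datum on the chart along an étale surjection glues. -/
theorem exists_descend {O Z : Over S} (π : O ⟶ Z) [Etale π.left] [Surjective π.left] (g : O ⟶ U)
    (θ : ∀ {T : Over S} (y₁ y₂ : T ⟶ O), y₁ ≫ π = y₂ ≫ π → Elt p T)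
    (θ₁ : ∀ {T : Over S} (y₁ y₂ : T ⟶ O) (h : y₁ ≫ π = y₂ ≫ π), (θ y₁ y₂ h).g₁ = y₁ ≫ g)
    (θ₂ : ∀ {T : Over S} (y₁ y₂ : T ⟶ O) (h : y₁ ≫ π = y₂ ≫ π), (θ y₁ y₂ h).g₂ = y₂ ≫ g)
    (θn : ∀ {T' T : Over S} (f : T' ⟶ T) (y₁ y₂ : T ⟶ O) (h : y₁ ≫ π = y₂ ≫ π),
      IsPull f (θ y₁ y₂ h) (θ (f ≫ y₁) (f ≫ y₂) (by rw [Category.assoc, h, Category.assoc])))
    (θm : ∀ {T : Over S} (y₁ y₂ y₃ : T ⟶ O) (h₁ : y₁ ≫ π = y₂ ≫ π) (h₂ : y₂ ≫ π = y₃ ≫ π),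
      IsMul (θ y₁ y₂ h₁) (θ y₂ y₃ h₂) (θ y₁ y₃ (h₁.trans h₂))) :
    ∃ (z : FibCat.overCat Z ⥤ᵇ 𝒵)
      (ι : BasedFunctor.comp (AlgSt.overMap π) z ≅ BasedFunctor.comp (AlgSt.overMap g) p),
      ∀ {T : Over S} (y₁ y₂ : T ⟶ O) (h : y₁ ≫ π = y₂ ≫ π),
        ι.hom.toNatTrans.app (sob y₁) ≫ (θ y₁ y₂ h).arr (θ₁ y₁ y₂ h) (θ₂ y₁ y₂ h) =
          eqToHom (congrArg (fun f => z.obj (sob f)) h) ≫ ι.hom.toNatTrans.app (sob y₂) := by
  let R := Sieve.generate (Presieve.singleton π)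
  have hfac : ∀ a : (Stk.sieveCat R).obj, ∃ y : a.obj.left ⟶ O, y ≫ π = a.obj.hom := fun a => by
    obtain ⟨W, h, g', hg', e⟩ := a.property
    cases hg'
    exact ⟨h, e⟩
  choose y hy using hfac
  have hym : ∀ {a b : (Stk.sieveCat R).obj} (m : a ⟶ b), y a ≫ π = (m.hom.left ≫ y b) ≫ π := fun {a b} m => by
    rw [Category.assoc, hy, hy]
    exact (Over.w m.hom).symm
  let A : ∀ {T : Over S} (y₁ y₂ : T ⟶ O), y₁ ≫ π = y₂ ≫ π → (Po p (y₁ ≫ g) ⟶ Po p (y₂ ≫ g)) :=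
    fun y₁ y₂ h => (θ y₁ y₂ h).arr (θ₁ y₁ y₂ h) (θ₂ y₁ y₂ h)
  have hA : ∀ {T : Over S} (y₁ y₂ : T ⟶ O) (h : y₁ ≫ π = y₂ ≫ π), 𝒵.p.IsHomLift (𝟙 T) (A y₁ y₂ h) :=
    fun y₁ y₂ h => Elt.arr_lift _ _ _
  have hAm : ∀ {T : Over S} (y₁ y₂ y₃ : T ⟶ O) (h₁ : y₁ ≫ π = y₂ ≫ π) (h₂ : y₂ ≫ π = y₃ ≫ π),
      A y₁ y₂ h₁ ≫ A y₂ y₃ h₂ = A y₁ y₃ (h₁.trans h₂) := fun y₁ y₂ y₃ h₁ h₂ => (θm y₁ y₂ y₃ h₁ h₂).arr _ _ _ _ _ _
  have hA1 : ∀ {T : Over S} (y₁ : T ⟶ O), A y₁ y₁ rfl = 𝟙 _ := fun y₁ => by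
    have e : θ y₁ y₁ rfl = Elt.one (θ y₁ y₁ rfl).g₁ := eq_one_of_isMul_self hst.1 (θm y₁ y₁ y₁ rfl rfl)
    have key : ∀ (a : Elt p _) (h₁ : a.g₁ = y₁ ≫ g) (h₂ : a.g₂ = y₁ ≫ g), a = Elt.one a.g₁ →
        a.arr h₁ h₂ = 𝟙 _ := by
      rintro ⟨x, x', φ, hφ⟩ h₁ h₂ ha
      dsimp only [Elt.one] at h₁ h₂ ha
      cases ha
      subst h₁
      exact Elt.arr_one _
    exact key _ _ _ e
  have hAn : ∀ {T' T : Over S} (f : T' ⟶ T) (y₁ y₂ : T ⟶ O) (h : y₁ ≫ π = y₂ ≫ π) (x₁ x₂ : T' ⟶ O)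
      (e₁ : f ≫ y₁ = x₁) (e₂ : f ≫ y₂ = x₂),
      Pm p f (show f ≫ y₁ ≫ g = x₁ ≫ g by rw [← e₁, Category.assoc]) ≫ A y₁ y₂ h =
        A x₁ x₂ (by rw [← e₁, ← e₂, Category.assoc, h, Category.assoc]) ≫
          Pm p f (show f ≫ y₂ ≫ g = x₂ ≫ g by rw [← e₂, Category.assoc]) := fun f y₁ y₂ h x₁ x₂ e₁ e₂ => by
    subst e₁ e₂
    exact (θn f y₁ y₂ h).arr _ _ _ _ _ _
  let M : ∀ {a b : (Stk.sieveCat R).obj} (m : a ⟶ b), Po p (y a ≫ g) ⟶ Po p (y b ≫ g) := fun {a b} m =>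
    A (y a) (m.hom.left ≫ y b) (hym m) ≫ Pm p m.hom.left (Category.assoc _ _ _).symm
  have hM : ∀ {a b : (Stk.sieveCat R).obj} (m : a ⟶ b), 𝒵.p.IsHomLift m.hom.left (M m) := fun {a b} m => by
    have := hA (y a) (m.hom.left ≫ y b) (hym m)
    have := Pm_lift p m.hom.left (Category.assoc m.hom.left (y b) g).symm
    have h : 𝒵.p.IsHomLift (𝟙 a.obj.left ≫ m.hom.left) (M m) := inferInstance
    rwa [Category.id_comp] at h
  let H : Stk.sieveCat R ⥤ᵇ 𝒵 :=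
    { toFunctor :=
        { obj := fun a => Po p (y a ≫ g)
          map := fun m => M m
          map_id := fun a => by
            show A (y a) (𝟙 a.obj.left ≫ y a) _ ≫ Pm p (𝟙 a.obj.left) _ = 𝟙 _
            have e : ∀ (x : a.obj.left ⟶ O) (hx : x = y a) (h1 : y a ≫ π = x ≫ π)
                (h2 : 𝟙 _ ≫ y a ≫ g = x ≫ g), A (y a) x h1 ≫ Pm p (𝟙 a.obj.left) h2 = 𝟙 _ := by
              rintro _ rfl _ _
              rw [hA1, Category.id_comp, Pm_id]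
            exact e _ (Category.id_comp _) _ _
          map_comp := fun {a b c} m n => by
            show A (y a) ((m.hom.left ≫ n.hom.left) ≫ y c) _ ≫ Pm p (m.hom.left ≫ n.hom.left) _ = M m ≫ M n
            have e := hAn m.hom.left (y b) (n.hom.left ≫ y c) (hym n) (m.hom.left ≫ y b)
              ((m.hom.left ≫ n.hom.left) ≫ y c) rfl (Category.assoc _ _ _).symm
            refine Eq.symm ?_
            refine (Category.assoc _ _ _).trans ?_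
            refine (congrArg (_ ≫ ·) (((Category.assoc _ _ _).symm.trans (congrArg (· ≫ _) e)).trans
              (Category.assoc _ _ _))).trans ?_
            refine (Category.assoc _ _ _).symm.trans ?_
            exact congrArg₂ (fun u v => u ≫ v) (hAm _ _ _ _ _) (Pm_comp p _ _ _ _) }
      w := CategoryTheory.Functor.ext (fun a => p.w_obj _) (fun a b m => by
        have := hM m
        exact IsHomLift.fac' 𝒵.p m.hom.left (M m)) }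
  haveI : (Stk.resSieve R 𝒵).IsEquivalence := hst.2 R (AlgSpDec.mem_J_etale π)
  let z := (Stk.resSieve R 𝒵).objPreimage H
  let η : BasedFunctor.comp (Stk.sieveIncl R) z ≅ H := (Stk.resSieve R 𝒵).objObjPreimageIso H
  have hmem : ∀ {T : Over S} (x : T ⟶ O), R (x ≫ π) := fun x => ⟨_, x, π, Presieve.singleton_self π, rfl⟩
  let ob : ∀ {T : Over S} (f : T ⟶ Z), R f → (Stk.sieveCat R).obj := fun {T} f hf => ⟨Over.mk f, hf⟩
  let cw : ∀ {T : Over S} (f : T ⟶ Z) (x : T ⟶ O) (hx : x ≫ π = f),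
      z.obj (sob f) ⟶ Po p (x ≫ g) := fun {T} f x hx =>
    η.hom.toNatTrans.app (ob f (hx ▸ hmem x)) ≫ A (y (ob f (hx ▸ hmem x))) x ((hy _).trans hx.symm)
  have hcw : ∀ {T : Over S} (f : T ⟶ Z) (x : T ⟶ O) (hx : x ≫ π = f), 𝒵.p.IsHomLift (𝟙 T) (cw f x hx) := by
    intro T f x hx
    have : 𝒵.p.IsHomLift (𝟙 T) (η.hom.toNatTrans.app (ob f (hx ▸ hmem x))) :=
      η.hom.isHomLift' (ob f (hx ▸ hmem x))
    have := hA (y (ob f (hx ▸ hmem x))) x ((hy _).trans hx.symm)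
    exact inferInstanceAs (𝒵.p.IsHomLift (𝟙 T) (_ ≫ _))
  have hiso : ∀ {T : Over S} (f : T ⟶ Z) (x : T ⟶ O) (hx : x ≫ π = f), IsIso (cw f x hx) := by
    intro T f x hx
    have := hcw f x hx
    have := isSC (hp := hst.1) (𝟙 T) (cw f x hx)
    exact IsStronglyCartesian.isIso_of_base_isIso 𝒵.p (𝟙 T) (cw f x hx)
  refine ⟨z, BasedNatIso.mkNatIso (F := BasedFunctor.comp (AlgSt.overMap π) z)
    (G := BasedFunctor.comp (AlgSt.overMap g) p)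
    (NatIso.ofComponents (fun b => @asIso _ _ _ _ (cw (b.hom ≫ π) b.hom rfl) (hiso (b.hom ≫ π) b.hom rfl)) (fun {b b'} m => ?_))
    (fun b => hcw (b.hom ≫ π) b.hom rfl), fun {T} y₁ y₂ h => ?_⟩
  · let o : (Stk.sieveCat R).obj := ob (b.hom ≫ π) (hmem _)
    let o' : (Stk.sieveCat R).obj := ob (b'.hom ≫ π) (hmem _)
    let m' : o ⟶ o' := ObjectProperty.homMk ((Over.map π).map m)
    have hn : z.map ((Over.map π).map m) ≫ η.hom.toNatTrans.app o' = η.hom.toNatTrans.app o ≫ M m' :=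
      η.hom.toNatTrans.naturality m'
    have e₁ := hAn m.left (y o') b'.hom (hy o') (m.left ≫ y o') b.hom rfl (Over.w m)
    have e₂ := hAm (y o) (m.left ≫ y o') b.hom (hym m')
      (show (m.left ≫ y o') ≫ π = b.hom ≫ π by rw [Category.assoc, hy o', ← Over.w m, Category.assoc]; rfl)
    have key : M m' ≫ A (y o') b'.hom (hy o') =
        A (y o) b.hom (hy o) ≫ Pm p m.left (show m.left ≫ b'.hom ≫ g = b.hom ≫ g by rw [reassoc_of% (Over.w m)]) := by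
      refine (Category.assoc _ _ _).trans ?_
      refine (congrArg (_ ≫ ·) e₁).trans ?_
      refine (Category.assoc _ _ _).symm.trans ?_
      exact congrArg (· ≫ _) e₂
    refine (Category.assoc _ _ _).symm.trans ?_
    refine (congrArg (· ≫ _) hn).trans ?_
    refine (Category.assoc _ _ _).trans ?_
    refine (congrArg (_ ≫ ·) key).trans ?_
    exact (Category.assoc _ _ _).symm
  · have key : ∀ (f f' : T ⟶ Z) (e : f = f') (x x' : T ⟶ O) (hx : x ≫ π = f) (hx' : x' ≫ π = f'),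
        cw f x hx ≫ A x x' (hx.trans (e.trans hx'.symm)) =
          eqToHom (congrArg (fun f => z.obj (sob f)) e) ≫ cw f' x' hx' := by
      rintro f _ rfl x x' hx hx'
      rw [eqToHom_refl, Category.id_comp]
      exact (Category.assoc _ _ _).trans (congrArg (_ ≫ ·) (hAm _ _ _ _ _))
    exact key _ _ h y₁ y₂ rfl rfl

end Groth.Agent.AlgStkX.FieldChart
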