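import Groth.Prelude.Def_AlgSt2
import Groth.Agent.FibBase.Basic

/-!
# Isomorphisms between pullbacks of a chart
-/

set_option autoImplicit false
set_option backward.isDefEq.respectTransparency false
set_option backward.isDefEq.respectTransparency.types false

universe u

open CategoryTheory CategoryTheory.Functor Groth.Agent.FibBase

namespace Groth.Agent.AlgStkX.FieldChart

variable {S : AlgebraicGeometry.Scheme.{u}} {𝒵 : AlgSt.Cat S} {U : Over S} (p : FibCat.overCat U ⥤ᵇ 𝒵)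

/-- The value of the chart at a point. -/
abbrev Po {T : Over S} (g : T ⟶ U) : 𝒵.obj := p.obj (Over.mk g)

/-- The transition map between values of the chart. -/
abbrev Pm {T' T : Over S} (f : T' ⟶ T) {g : T ⟶ U} {g' : T' ⟶ U} (h : f ≫ g = g') : Po p g' ⟶ Po p g :=
  p.map (Over.homMk f h)

theorem Pm_lift {T' T : Over S} (f : T' ⟶ T) {g : T ⟶ U} {g' : T' ⟶ U} (h : f ≫ g = g') :
    𝒵.p.IsHomLift f (Pm p f h) :=
  haveI : (FibCat.overCat U).p.IsHomLift f (Over.homMk f h : Over.mk g' ⟶ Over.mk g) :=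
    IsHomLift.map (FibCat.overCat U).p (Over.homMk f h : Over.mk g' ⟶ Over.mk g)
  p.preserves_isHomLift f _

theorem Pm_comp {T'' T' T : Over S} (f' : T'' ⟶ T') (f : T' ⟶ T) {g : T ⟶ U} {g' : T' ⟶ U} {g'' : T'' ⟶ U}
    (h' : f' ≫ g' = g'') (h : f ≫ g = g') :
    Pm p f' h' ≫ Pm p f h = Pm p (f' ≫ f) (by rw [Category.assoc, h, h']) := by
  rw [← p.toFunctor.map_comp]; rfl

theorem Pm_congr {T' T : Over S} {f f' : T' ⟶ T} (e : f = f') {g : T ⟶ U} {g' : T' ⟶ U} (h : f ≫ g = g') :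
    Pm p f h = Pm p f' (e ▸ h) := by
  subst e; rfl

theorem Pm_id {T : Over S} (g : T ⟶ U) : Pm p (𝟙 T) (Category.id_comp g) = 𝟙 (Po p g) :=
  (congrArg p.map (show (Over.homMk (𝟙 T) (Category.id_comp g) : Over.mk g ⟶ Over.mk g) = 𝟙 _ from rfl)).trans
    (p.toFunctor.map_id _)

/-- An isomorphism between the values of the chart at two points. -/
structure Elt (T : Over S) where
  g₁ : T ⟶ U
  g₂ : T ⟶ U
  hom : Po p g₁ ⟶ Po p g₂
  lift : 𝒵.p.IsHomLift (𝟙 T) hom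

variable {p}

/-- `b` is the restriction of `a` along `f`. -/
def IsPull {T' T : Over S} (f : T' ⟶ T) (a : Elt p T) (b : Elt p T') : Prop :=
  ∃ (h₁ : f ≫ a.g₁ = b.g₁) (h₂ : f ≫ a.g₂ = b.g₂), Pm p f h₁ ≫ a.hom = b.hom ≫ Pm p f h₂

theorem IsPull.g₁_eq {T' T : Over S} {f : T' ⟶ T} {a : Elt p T} {b : Elt p T'} (h : IsPull f a b) :
    b.g₁ = f ≫ a.g₁ := h.1.symm

theorem IsPull.g₂_eq {T' T : Over S} {f : T' ⟶ T} {a : Elt p T} {b : Elt p T'} (h : IsPull f a b) :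
    b.g₂ = f ≫ a.g₂ := h.2.1.symm

theorem isPull_id {T : Over S} (a : Elt p T) : IsPull (𝟙 T) a a :=
  ⟨Category.id_comp _, Category.id_comp _, by rw [Pm_id, Pm_id, Category.id_comp, Category.comp_id]⟩

theorem IsPull.comp {T'' T' T : Over S} {f' : T'' ⟶ T'} {f : T' ⟶ T} {a : Elt p T} {b : Elt p T'} {c : Elt p T''}
    (h' : IsPull f' b c) (h : IsPull f a b) : IsPull (f' ≫ f) a c := by
  obtain ⟨a₁, a₂, ea⟩ := h
  obtain ⟨b₁, b₂, eb⟩ := h'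
  refine ⟨by rw [Category.assoc, a₁, b₁], by rw [Category.assoc, a₂, b₂], ?_⟩
  rw [← Pm_comp p f' f b₁ a₁, ← Pm_comp p f' f b₂ a₂, Category.assoc, ea, reassoc_of% eb]

section FibGrpd

variable (hZ : FibCat.IsFibGrpd 𝒵.p)
include hZ

theorem IsPull.unique {T' T : Over S} {f : T' ⟶ T} {a : Elt p T} {b b' : Elt p T'} (h : IsPull f a b)
    (h' : IsPull f a b') : b = b' := by
  obtain ⟨g₁, g₂, φ, hφ⟩ := b
  obtain ⟨g₁', g₂', φ', hφ'⟩ := b'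
  obtain ⟨a₁, a₂, e⟩ := h
  obtain ⟨a₁', a₂', e'⟩ := h'
  dsimp only at a₁ a₂ a₁' a₂' e e'
  subst a₁ a₂ a₁' a₂'
  have := Pm_lift p f (rfl : f ≫ a.g₂ = _)
  have := isSC (hp := hZ) f (Pm p f (rfl : f ≫ a.g₂ = _))
  have heq : φ = φ' := IsStronglyCartesian.ext 𝒵.p f (Pm p f (rfl : f ≫ a.g₂ = _)) (𝟙 T') (e.symm.trans e')
  subst heq
  rfl

theorem exists_isPull {T' T : Over S} (f : T' ⟶ T) (a : Elt p T) : ∃ b : Elt p T', IsPull f a b := by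
  have := Pm_lift p f (rfl : f ≫ a.g₁ = _)
  have := Pm_lift p f (rfl : f ≫ a.g₂ = _)
  have := a.lift
  have := isSC (hp := hZ) f (Pm p f (rfl : f ≫ a.g₂ = _))
  have : 𝒵.p.IsHomLift f (Pm p f (rfl : f ≫ a.g₁ = _) ≫ a.hom) := by
    have h : 𝒵.p.IsHomLift (f ≫ 𝟙 T) (Pm p f (rfl : f ≫ a.g₁ = _) ≫ a.hom) := inferInstance
    rwa [Category.comp_id] at h
  let ψ := IsStronglyCartesian.map 𝒵.p f (Pm p f (rfl : f ≫ a.g₂ = _)) (g := 𝟙 T')
    (Category.id_comp f).symm (Pm p f (rfl : f ≫ a.g₁ = _) ≫ a.hom)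
  exact ⟨⟨_, _, ψ, inferInstance⟩, rfl, rfl,
    (IsStronglyCartesian.fac 𝒵.p f (Pm p f (rfl : f ≫ a.g₂ = _)) (g := 𝟙 T') (Category.id_comp f).symm _).symm⟩

/-- Restriction. -/
noncomputable def pull {T' T : Over S} (f : T' ⟶ T) (a : Elt p T) : Elt p T' := (exists_isPull hZ f a).choose

theorem isPull_pull {T' T : Over S} (f : T' ⟶ T) (a : Elt p T) : IsPull f a (pull hZ f a) :=
  (exists_isPull hZ f a).choose_spec

theorem pull_eq {T' T : Over S} {f : T' ⟶ T} {a : Elt p T} {b : Elt p T'} (h : IsPull f a b) :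
    pull hZ f a = b :=
  (isPull_pull hZ f a).unique hZ h

theorem pull_id {T : Over S} (a : Elt p T) : pull hZ (𝟙 T) a = a := pull_eq hZ (isPull_id a)

theorem pull_pull {T'' T' T : Over S} (f' : T'' ⟶ T') (f : T' ⟶ T) (a : Elt p T) :
    pull hZ f' (pull hZ f a) = pull hZ (f' ≫ f) a :=
  (pull_eq hZ ((isPull_pull hZ f' _).comp (isPull_pull hZ f a))).symm

theorem pull_g₁ {T' T : Over S} (f : T' ⟶ T) (a : Elt p T) : (pull hZ f a).g₁ = f ≫ a.g₁ :=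
  (isPull_pull hZ f a).g₁_eq

theorem pull_g₂ {T' T : Over S} (f : T' ⟶ T) (a : Elt p T) : (pull hZ f a).g₂ = f ≫ a.g₂ :=
  (isPull_pull hZ f a).g₂_eq

end FibGrpd

/-- The identity element at a point. -/
def Elt.one {T : Over S} (g : T ⟶ U) : Elt p T :=
  ⟨g, g, 𝟙 _, IsHomLift.id (p.w_obj (Over.mk g))⟩

/-- `c` is the composite of `a` and `b`. -/
def IsMul {T : Over S} (a b c : Elt p T) : Prop :=
  ∃ (h₁ : c.g₁ = a.g₁) (h : a.g₂ = b.g₁) (h₂ : b.g₂ = c.g₂),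
    c.hom = Pm p (𝟙 T) ((Category.id_comp _).trans h₁.symm) ≫ a.hom ≫
      Pm p (𝟙 T) ((Category.id_comp _).trans h.symm) ≫ b.hom ≫ Pm p (𝟙 T) ((Category.id_comp _).trans h₂.symm)

theorem IsMul.g₁_eq {T : Over S} {a b c : Elt p T} (h : IsMul a b c) : c.g₁ = a.g₁ := h.1

theorem IsMul.mid {T : Over S} {a b c : Elt p T} (h : IsMul a b c) : a.g₂ = b.g₁ := h.2.1

theorem IsMul.g₂_eq {T : Over S} {a b c : Elt p T} (h : IsMul a b c) : c.g₂ = b.g₂ := h.2.2.1.symm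

theorem isMul_mk_iff {T : Over S} {g₁ g₂ g₃ : T ⟶ U} {φ : Po p g₁ ⟶ Po p g₂} {hφ} {ψ : Po p g₂ ⟶ Po p g₃} {hψ}
    {χ : Po p g₁ ⟶ Po p g₃} {hχ} :
    IsMul (⟨g₁, g₂, φ, hφ⟩ : Elt p T) ⟨g₂, g₃, ψ, hψ⟩ ⟨g₁, g₃, χ, hχ⟩ ↔ χ = φ ≫ ψ := by
  constructor
  · rintro ⟨h₁, h, h₂, e⟩
    dsimp only at e
    rw [e, Pm_id, Pm_id, Pm_id, Category.id_comp, Category.id_comp, Category.comp_id]
  · intro e
    refine ⟨rfl, rfl, rfl, e.trans ?_⟩
    dsimp only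
    rw [Pm_id, Pm_id, Pm_id, Category.id_comp, Category.id_comp, Category.comp_id]

theorem exists_isMul {T : Over S} (a b : Elt p T) (h : a.g₂ = b.g₁) : ∃ c, IsMul a b c := by
  obtain ⟨g₁, g₂, φ, hφ⟩ := a
  obtain ⟨g₂', g₃, ψ, hψ⟩ := b
  dsimp only at h
  subst h
  exact ⟨⟨g₁, g₃, φ ≫ ψ, inferInstance⟩, isMul_mk_iff.2 rfl⟩

theorem IsMul.unique {T : Over S} {a b c c' : Elt p T} (h : IsMul a b c) (h' : IsMul a b c') : c = c' := by
  obtain ⟨g₁, g₂, φ, hφ⟩ := a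
  obtain ⟨g₂', g₃, ψ, hψ⟩ := b
  obtain ⟨x, y, χ, hχ⟩ := c
  obtain ⟨x', y', χ', hχ'⟩ := c'
  obtain rfl : g₂ = g₂' := h.mid
  obtain rfl : x = g₁ := h.g₁_eq
  obtain rfl : y = g₃ := h.g₂_eq
  obtain rfl : x' = x := h'.g₁_eq
  obtain rfl : y' = y := h'.g₂_eq
  obtain rfl : χ = χ' := (isMul_mk_iff.1 h).trans (isMul_mk_iff.1 h').symm
  rfl

theorem IsMul.assoc {T : Over S} {a b c ab bc abc : Elt p T} (h₁ : IsMul a b ab) (h₂ : IsMul b c bc)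
    (h₃ : IsMul ab c abc) : IsMul a bc abc := by
  obtain ⟨g₁, g₂, φ, hφ⟩ := a
  obtain ⟨g₂', g₃, ψ, hψ⟩ := b
  obtain ⟨g₃', g₄, θ, hθ⟩ := c
  obtain ⟨x, y, α, hα⟩ := ab
  obtain ⟨x', y', β, hβ⟩ := bc
  obtain ⟨x'', y'', γ, hγ⟩ := abc
  obtain rfl : g₂ = g₂' := h₁.mid
  obtain rfl : g₃ = g₃' := h₂.mid
  obtain rfl : x = g₁ := h₁.g₁_eq
  obtain rfl : y = g₃ := h₁.g₂_eq
  obtain rfl : x' = g₂ := h₂.g₁_eq
  obtain rfl : y' = g₄ := h₂.g₂_eq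
  obtain rfl : x'' = x := h₃.g₁_eq
  obtain rfl : y'' = y' := h₃.g₂_eq
  rw [isMul_mk_iff] at h₁ h₂ h₃ ⊢
  rw [h₃, h₁, h₂, Category.assoc]

theorem one_isMul {T : Over S} (a : Elt p T) : IsMul (Elt.one a.g₁) a a := by
  obtain ⟨g₁, g₂, φ, hφ⟩ := a
  exact isMul_mk_iff.2 (Category.id_comp _).symm

theorem isMul_one {T : Over S} (a : Elt p T) : IsMul a (Elt.one a.g₂) a := by
  obtain ⟨g₁, g₂, φ, hφ⟩ := a
  exact isMul_mk_iff.2 (Category.comp_id _).symm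

section FibGrpd

variable (hZ : FibCat.IsFibGrpd 𝒵.p)
include hZ

theorem exists_inv {T : Over S} (a : Elt p T) :
    ∃ b : Elt p T, b.g₁ = a.g₂ ∧ b.g₂ = a.g₁ ∧ IsMul a b (Elt.one a.g₁) ∧ IsMul b a (Elt.one a.g₂) := by
  obtain ⟨g₁, g₂, φ, hφ⟩ := a
  have := isSC (hp := hZ) (𝟙 T) φ
  have : IsIso φ := IsStronglyCartesian.isIso_of_base_isIso 𝒵.p (𝟙 T) φ
  exact ⟨⟨g₂, g₁, inv φ, inferInstance⟩, rfl, rfl, isMul_mk_iff.2 (IsIso.hom_inv_id φ).symm,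
    isMul_mk_iff.2 (IsIso.inv_hom_id φ).symm⟩

theorem IsMul.pull {T' T : Over S} (f : T' ⟶ T) {a b c : Elt p T} (h : IsMul a b c) :
    IsMul (FieldChart.pull hZ f a) (FieldChart.pull hZ f b) (FieldChart.pull hZ f c) := by
  obtain ⟨d, hd⟩ := exists_isMul (FieldChart.pull hZ f a) (FieldChart.pull hZ f b)
    (by rw [pull_g₂, pull_g₁, h.mid])
  suffices IsPull f c d by rwa [pull_eq hZ this]
  have ha := isPull_pull hZ f a
  have hb := isPull_pull hZ f b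
  revert hd ha hb
  generalize FieldChart.pull hZ f a = a'
  generalize FieldChart.pull hZ f b = b'
  intro hd ha hb
  obtain ⟨g₁, g₂, φ, hφ⟩ := a
  obtain ⟨g₂', g₃, ψ, hψ⟩ := b
  obtain ⟨x, y, χ, hχ⟩ := c
  obtain rfl : g₂ = g₂' := h.mid
  obtain rfl : x = g₁ := h.g₁_eq
  obtain rfl : y = g₃ := h.g₂_eq
  obtain ⟨g₁', g₂'', φ', hφ'⟩ := a'
  obtain ⟨g₂''', g₃', ψ', hψ'⟩ := b'
  obtain ⟨x', y', χ', hχ'⟩ := d
  obtain rfl : g₂'' = g₂''' := hd.mid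
  obtain rfl : x' = g₁' := hd.g₁_eq
  obtain rfl : y' = g₃' := hd.g₂_eq
  rw [isMul_mk_iff] at h hd
  obtain ⟨a₁, a₂, ea⟩ := ha
  obtain ⟨b₁, b₂, eb⟩ := hb
  dsimp only at a₁ a₂ b₁ b₂ ea eb
  refine ⟨a₁, b₂, ?_⟩
  dsimp only
  rw [h, hd, reassoc_of% ea, eb, Category.assoc]

theorem pull_one {T' T : Over S} (f : T' ⟶ T) (g : T ⟶ U) :
    FieldChart.pull hZ f (Elt.one g : Elt p T) = Elt.one (f ≫ g) :=
  pull_eq hZ ⟨rfl, rfl, (Category.comp_id _).trans (Category.id_comp _).symm⟩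

/-- Left cancellation. -/
theorem IsMul.left_cancel {T : Over S} {a b b' c : Elt p T} (h : IsMul a b c) (h' : IsMul a b' c) : b = b' := by
  obtain ⟨i, hi₁, hi₂, -, hi⟩ := exists_inv hZ a
  obtain ⟨d, hd⟩ := exists_isMul i c (by rw [hi₂, h.g₁_eq])
  have key : ∀ x : Elt p T, IsMul a x c → x = d := fun x hx => by
    obtain ⟨d', hd'⟩ := exists_isMul (Elt.one a.g₂) x hx.mid
    have e : x = d' := (hx.mid ▸ one_isMul x : IsMul (Elt.one a.g₂) x x).unique hd'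
    rw [← e] at hd'
    exact (hi.assoc hx hd').unique hd
  rw [key b h, key b' h']

theorem eq_one_of_isMul_self {T : Over S} {a : Elt p T} (h : IsMul a a a) : a = Elt.one a.g₁ := by
  have e := h.left_cancel hZ (isMul_one a)
  rw [h.mid] at e
  exact e

/-- `(a⁻¹ b) (b⁻¹ c) = a⁻¹ c`. -/
theorem isMul_of_quot {T : Over S} {a b c x y z : Elt p T} (hx : IsMul a x b) (hy : IsMul b y c)
    (hz : IsMul a z c) : IsMul x y z := by
  obtain ⟨w, hw⟩ := exists_isMul x y (by rw [← hx.g₂_eq, hy.mid])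
  have h := hx.assoc hw hy
  rw [hz.left_cancel hZ h]
  exact hw

end FibGrpd

end Groth.Agent.AlgStkX.FieldChart
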