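import Groth.Agent.AlgStkX.FieldChart.Galois
import Groth.Agent.AlgStkX.FieldChart.AffineAct
import Groth.Agent.AlgStkX.FieldChart.Theta
import Groth.Agent.AlgStLib.Source
import Groth.Agent.AlgStLib.Small
import Groth.Agent.AlgStLib.Charts
import Groth.Agent.AlgSpLib.LocalSourceInst
import Groth.Agent.AlgSpLib.SmoothLocalInst
import Mathlib.AlgebraicGeometry.Morphisms.Descent
import Mathlib.AlgebraicGeometry.Morphisms.FlatDescent

/-!
# An affine smooth chart through a field point with a Galois lift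
-/

set_option autoImplicit false
set_option backward.isDefEq.respectTransparency false
set_option backward.isDefEq.respectTransparency.types false

universe u

open CategoryTheory CategoryTheory.Functor CategoryTheory.Limits AlgebraicGeometry AlgSp
open Groth.Agent.AlgSpLib Groth.Agent.AlgStLib Groth.Agent.FibBase

namespace Groth.Agent.AlgStkX.FieldChart

variable {S : Scheme.{u}} {k L : Type u} [Field k] [Field L] [Algebra k L] [FiniteDimensional k L] [IsGalois k L]
  (sk : Spec (CommRingCat.of k) ⟶ S) {𝒵 : AlgSt.Cat S}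

theorem exists_chart_of_galois (hst : Stk.IsStack (QuotSh.J Scheme.etalePrecoverage S) 𝒵)
    (hΔ : AlgSt.RepByAlgSp1 (FibCat.diag (FibCat.toSelf 𝒵))) (x : FibCat.overCat (Over.mk sk) ⥤ᵇ 𝒵)
    {U : Over S} [IsAffine U.left] (p : FibCat.overCat U ⥤ᵇ 𝒵) (hp : AlgSt.RepByAlgSpWith (LocP @Smooth) p)
    (u : extPt sk L ⟶ U) (φ₀ : Po p u ⟶ x.obj (sob (extProj sk L)))
    (hφ₀ : 𝒵.p.IsHomLift (𝟙 (extPt sk L)) φ₀) :
    ∃ (Z : Over S) (_ : IsAffine Z.left) (z : FibCat.overCat Z ⥤ᵇ 𝒵) (w : Over.mk sk ⟶ Z),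
      AlgSt.RepByAlgSpWith (LocP @Smooth) z ∧ Nonempty (BasedFunctor.comp (AlgSt.overMap w) z ≅ x) := by
  obtain ⟨Φ⟩ := exists_isoSpace hst.1 hp
  obtain ⟨V, a, hV, ha, t, Φb, θx, ht1, htσ, hΦb, hΦn, hxa, hxn, hxc⟩ := exists_galois_tuple sk Φ u φ₀ hφ₀
  obtain ⟨P, univ, hsep, hsm, hlift, hext⟩ := exists_tupSpace (Φ := Φ) (G := L ≃ₐ[k] L) ha
  choose ρP hρP using fun σ : L ≃ₐ[k] L => hlift (univ.act σ)
  have hρmul : ∀ σ τ, ρP (σ * τ) = ρP σ ≫ ρP τ := fun σ τ => hext _ _ (by
    rw [hρP, ← Tup.pull_comp, hρP, ← Tup.act_pull, hρP, Tup.act_act])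
  have hρone : ρP 1 = 𝟙 P := hext _ _ (by rw [hρP, Tup.act_one, Tup.pull_id])
  obtain ⟨l, hl⟩ := hlift t
  have heq : ∀ σ, galAct sk σ ≫ l = l ≫ ρP σ := fun σ => hext _ _ (by
    rw [← Tup.pull_comp, hl, htσ, ← Tup.pull_comp, hρP, ← Tup.act_pull, hl])
  have hρg : ∀ σ τ, ρP σ ≫ univ.g τ = univ.g (σ * τ) := fun σ τ => congrFun (congrArg Tup.g (hρP σ)) τ
  have hρv : ∀ σ τ ρ, ρP σ ≫ univ.v τ ρ = univ.v (σ * τ) ρ := fun σ τ ρ =>
    congrFun (congrFun (congrArg Tup.v (hρP σ)) τ) ρ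
  let x₀ : P.left := l.left (IsLocalRing.closedPoint L)
  have hx₀ : ∀ σ, (ρP σ).left x₀ = x₀ := fun σ => by
    show (ρP σ).left (l.left _) = l.left _
    rw [← Scheme.Hom.comp_apply, ← Over.comp_left, ← heq, Over.comp_left, Scheme.Hom.comp_apply]
    exact congrArg l.left (Subsingleton.elim (α := PrimeSpectrum L) _ _)
  obtain ⟨R, A, _, _, act, iR, φ, i, hi, hxi, hφ, hiS, hact, hfree⟩ :=
    exists_affine_invariant P ρP hρone hρmul x₀ hx₀ (fun σ hσ => ⟨univ.w 1, by
      have h : (ρP σ).left.appTop (univ.w 1) = univ.w (σ * 1) := congrFun (congrArg Tup.w (hρP σ)) 1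
      rw [h, mul_one]
      exact univ.hw 1 σ (Ne.symm hσ)⟩)
  let B := Inv (L ≃ₐ[k] L) A
  let φB : R →+* B := φ.codRestrict B fun r g => hφ g r
  let eR : Spec (CommRingCat.of B) ⟶ S := Spec.map (CommRingCat.ofHom φB) ≫ iR
  let O : Over S := Over.mk (i ≫ P.hom)
  let Z : Over S := Over.mk eR
  let j : O ⟶ P := Over.homMk i rfl
  have : Mono j := (Over.forget S).mono_of_mono_map (inferInstanceAs (Mono i))
  let π : O ⟶ Z := Over.homMk (Spec.map (CommRingCat.ofHom (algebraMap B A))) (by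
    show Spec.map _ ≫ Spec.map _ ≫ iR = i ≫ P.hom
    rw [hiS, ← Spec.map_comp_assoc]
    rfl)
  have : Algebra.Etale B A := etale_inv hfree
  have : Etale π.left := by
    show Etale (Spec.map _)
    rw [HasRingHomProperty.Spec_iff (P := @Etale)]
    exact RingHom.etale_algebraMap.2 this
  have : Surjective π.left := ⟨comap_surjective_inv hfree⟩
  let ρO : (L ≃ₐ[k] L) → (O ⟶ O) := fun σ =>
    Over.homMk (Spec.map (CommRingCat.ofHom (MulSemiringAction.toRingHom (L ≃ₐ[k] L) A σ))) (by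
      show Spec.map _ ≫ i ≫ P.hom = i ≫ P.hom
      rw [← Category.assoc, hact, Category.assoc, Over.w (ρP σ)])
  have hρj : ∀ σ, ρO σ ≫ j = j ≫ ρP σ := fun σ => Over.OverMorphism.ext (hact σ)
  have hρO : ∀ σ τ, ρO (σ * τ) = ρO σ ≫ ρO τ := fun σ τ => (cancel_mono j).1 (by
    rw [Category.assoc, hρj, hρj, reassoc_of% (hρj σ), hρmul])
  obtain ⟨gr⟩ := exists_graph (B := B) hfree π (Iso.refl _) (Iso.refl _) (by simp [π]; exact (Category.comp_id _).symm) ρO (fun σ => by simp [ρO]; exact (Category.comp_id _).symm)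
  let g : O ⟶ U := j ≫ univ.g 1
  have hne : ∀ σ, (chartElt Φ (a σ) (univ.v 1 σ)).g₂ = univ.g σ := fun σ => by
    rw [(univ.mul 1 σ 1).mid, univ.src, one_mul]
  obtain ⟨θ, hθ₁, hθ₂, hθn, hθm, hθl⟩ := gr.exists_theta Φ g (fun σ => chartElt Φ (a σ) (j ≫ univ.v 1 σ)) hρO
    (fun σ => by rw [chartElt_comp, pull_g₁, univ.src])
    (fun σ => by rw [chartElt_comp, pull_g₂, hne, reassoc_of% (hρj σ), hρg, mul_one])
    (fun σ τ => by
      rw [← chartElt_comp, reassoc_of% (hρj σ), hρv, mul_one, chartElt_comp, chartElt_comp, chartElt_comp]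
      have h := (univ.mul 1 σ τ).pull hst.1 j
      rwa [one_mul] at h)
  obtain ⟨z, ι, hι⟩ := exists_descend hst π g θ hθ₁ hθ₂ hθn hθm
  -- smoothness
  have hzsm : AlgSt.RepByAlgSpWith (LocP @Smooth) z := by
    have hg : Smooth g.left := by
      show Smooth (i ≫ (univ.g 1).left)
      have := hsm
      infer_instance
    refine repByAlgSpWith_of_comp_smooth_surjective stableBC_locP (isLocalOnSource_smooth _)
      (isFibGrpd_overCat O) (isFibGrpd_overCat Z) (repByAlgSp1_of_diag hst.1 hΔ Z z)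
      (repByAlgSpWith_overMap stableBC_locP (locP_of_repWith ((repWith_yon_map_iff (P := @Smooth) π).2
        (inferInstanceAs (Smooth π.left)))))
      (repByAlgSpWith_overMap stableBC_isSurjectiveMor (surjective_map_of_repWith
        ((repWith_yon_map_iff (P := @Surjective) π).2 ‹Surjective π.left›)))
      (repByAlgSpWith_of_iso ι.symm (repByAlgSpWith_locP_comp (isFibGrpd_overCat O) (isFibGrpd_overCat U)
        (repByAlgSpWith_overMap stableBC_locP (locP_of_repWith ((repWith_yon_map_iff (P := @Smooth) g).2 hg))) hp))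
  -- the point
  have hrange : Set.range l.left ⊆ Set.range i := by
    rintro _ ⟨q, rfl⟩
    rw [show q = IsLocalRing.closedPoint L from Subsingleton.elim (α := PrimeSpectrum L) _ _]
    exact hxi
  let lO : extPt sk L ⟶ O := Over.homMk (IsOpenImmersion.lift i l.left hrange) (by
    show IsOpenImmersion.lift i l.left hrange ≫ i ≫ P.hom = _
    rw [IsOpenImmersion.lift_fac_assoc]
    exact Over.w l)
  have hlO : lO ≫ j = l := Over.OverMorphism.ext (IsOpenImmersion.lift_fac _ _ _)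
  have heqO : ∀ σ, galAct sk σ ≫ lO = lO ≫ ρO σ := fun σ => (cancel_mono j).1 (by
    rw [Category.assoc, hlO, Category.assoc, hρj, reassoc_of% hlO, heq])
  let lA : A →+* L := (Spec.preimage lO.left).hom
  have hlA : Spec.map (CommRingCat.ofHom lA) = lO.left := Spec.map_preimage _
  have hlAσ : ∀ (σ : L ≃ₐ[k] L) (b : A), lA (σ • b) = σ • lA b := fun σ b => by
    have h : Spec.map (CommRingCat.ofHom (lA.comp (MulSemiringAction.toRingHom (L ≃ₐ[k] L) A σ))) =
        Spec.map (CommRingCat.ofHom ((MulSemiringAction.toRingHom (L ≃ₐ[k] L) L σ).comp lA)) := by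
      rw [CommRingCat.ofHom_comp, CommRingCat.ofHom_comp, Spec.map_comp, Spec.map_comp, hlA]
      exact (congrArg (fun m : extPt sk L ⟶ O => m.left) (heqO σ)).symm
    exact congr($(Spec.map_injective h) b)
  have hfix : ∀ b : B, ∃ c : k, algebraMap k L c = lA b := fun b =>
    Algebra.IsInvariant.isInvariant (A := k) (G := L ≃ₐ[k] L) (lA b) fun σ => by rw [← hlAσ, b.2 σ]
  choose wf hwf using hfix
  let wB : B →+* k :=
    { toFun := wf
      map_one' := (algebraMap k L).injective (by simp [hwf])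
      map_mul' := fun b c => (algebraMap k L).injective (by simp [hwf])
      map_zero' := (algebraMap k L).injective (by simp [hwf])
      map_add' := fun b c => (algebraMap k L).injective (by simp [hwf]) }
  have hwB : (algebraMap k L).comp wB = lA.comp (algebraMap B A) := RingHom.ext fun b => hwf b
  have hw0 : Spec.map (CommRingCat.ofHom wB) ≫ eR = sk := by
    have e : Spec.map (CommRingCat.ofHom (algebraMap k L)) ≫ Spec.map (CommRingCat.ofHom wB) ≫ eR =
        Spec.map (CommRingCat.ofHom (algebraMap k L)) ≫ sk := by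
      rw [← Category.assoc, ← Spec.map_comp, ← CommRingCat.ofHom_comp, hwB, CommRingCat.ofHom_comp, Spec.map_comp,
        hlA, Category.assoc, ← Category.assoc (Spec.map _) _ iR]
      exact (congrArg (lO.left ≫ ·) (Over.w π)).trans (Over.w lO)
    have : Surjective (Spec.map (CommRingCat.ofHom (algebraMap k L))) := (etale_extProj sk).2
    exact (cancel_epi (Spec.map (CommRingCat.ofHom (algebraMap k L)))).1 e
  let w : Over.mk sk ⟶ Z := Over.homMk (Spec.map (CommRingCat.ofHom wB)) hw0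
  have hlw : lO ≫ π = extProj sk L ≫ w := by
    refine Over.OverMorphism.ext ?_
    show lO.left ≫ Spec.map _ = Spec.map _ ≫ Spec.map _
    rw [← hlA, ← Spec.map_comp, ← Spec.map_comp, ← CommRingCat.ofHom_comp, ← CommRingCat.ofHom_comp, hwB]
  have hlu : lO ≫ g = u := by
    show lO ≫ j ≫ univ.g 1 = u
    rw [reassoc_of% hlO, ← ht1, ← hl]
    rfl
  obtain ⟨hqe, hqs⟩ := etale_extProj (k := k) (L := L) sk
  obtain ⟨grL⟩ := exists_graph (G := L ≃ₐ[k] L) (B := k) (fun σ hσ => by
      obtain ⟨b, hb⟩ : ∃ b : L, σ b ≠ b := by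
        by_contra hc
        exact hσ (AlgEquiv.ext fun b => not_not.1 fun h => hc ⟨b, h⟩)
      exact Ideal.eq_top_of_isUnit_mem _ (Ideal.subset_span ⟨b, rfl⟩)
        (isUnit_iff_ne_zero.2 (sub_ne_zero.2 (Ne.symm hb))))
    (extProj sk L) (Iso.refl _) (Iso.refl _) (by simp) (galAct sk) (fun σ => by simp)
  have hθθx : ∀ {T : Over S} (b b' : T ⟶ extPt sk L) (h : b ≫ extProj sk L = b' ≫ extProj sk L),
      θ (b ≫ lO) (b' ≫ lO) (by rw [Category.assoc, Category.assoc, hlw, reassoc_of% h]) = θx b b' h := by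
    intro T b b' h
    refine grL.elt_ext Φ b b' h _ _ fun {T'} f σ hσ => ?_
    rw [pull_eq hst.1 (hθn f _ _ _), hθl _ _ _ σ (by
      rw [← Category.assoc f, hσ, Category.assoc, Category.assoc, heqO]; simp only [Category.assoc]),
      hxn f b b' h _ _ rfl rfl, ← chartElt_comp]
    rw [show (f ≫ b ≫ lO) ≫ j ≫ univ.v 1 σ = (f ≫ b) ≫ t.v 1 σ by
      rw [← hl]; simp [reassoc_of% hlO, Tup.pull]]
    rw [chartElt_comp, hxc, hxn _ _ _ _ _ _ (Category.comp_id _) hσ.symm]
  exact ⟨Z, inferInstanceAs (IsAffine (Spec _)), z, w, hzsm,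
    exists_point_iso hst π g θ hθ₁ hθ₂ ι hι (extProj sk L) w lO hlw x u hlu Φb hΦb hΦn θx hθθx hxa⟩

end Groth.Agent.AlgStkX.FieldChart
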