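import Groth.Agent.SGA1Q.FreeRing
import Groth.Agent.MiscTwoH99.GaloisEtale
import Mathlib.RingTheory.Finiteness.ModuleFinitePresentation
import Mathlib.RingTheory.Invariant.Basic
import Mathlib.RingTheory.Etale.Basic
import Mathlib.RingTheory.Flat.Rank

/-!
# The ring of invariants of a free action of a finite group
-/

set_option autoImplicit false
set_option backward.isDefEq.respectTransparency false
set_option backward.isDefEq.respectTransparency.types false

universe u

open scoped TensorProduct

namespace Groth.Agent.AlgStkX.FieldChart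

variable {G A : Type u} [Group G] [Finite G] [CommRing A] [MulSemiringAction G A]

/-- The invariants of an action. -/
abbrev Inv (G A : Type u) [Group G] [CommRing A] [MulSemiringAction G A] : Subring A := FixedPoints.subring A G

instance isInvariant_inv : Algebra.IsInvariant (Inv G A) A G := ⟨fun a ha => ⟨⟨a, ha⟩, rfl⟩⟩

instance faithfulSMul_inv : FaithfulSMul (Inv G A) A :=
  (faithfulSMul_iff_algebraMap_injective _ _).2 Subtype.val_injective

variable (hfree : ∀ g : G, g ≠ 1 → Ideal.span (Set.range fun a : A => a - g • a) = ⊤)

include hfree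

theorem finite_and_unramified :
    Module.Finite (Inv G A) A ∧ Algebra.FormallyUnramified (Inv G A) A := by
  classical
  have : Fintype G := Fintype.ofFinite G
  let B := Inv G A
  obtain ⟨f, hf1, hf0⟩ := SGA1Q.exists_galoisBasis G A B hfree
  obtain ⟨S, hS⟩ := TensorProduct.exists_finset f
  let e := (Finset.equivFin S).symm
  let x : Fin S.card → A := fun j => (e j).1.1
  let y : Fin S.card → A := fun j => (e j).1.2
  have hval : ∀ g : G, ∑ k, x k * (g • y k) = if g = 1 then 1 else 0 := by
    intro g
    have h : SGA1Q.galMap G A B g f = ∑ k, x k * (g • y k) := by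
      rw [hS, map_sum, ← Finset.sum_attach S]
      exact (Fintype.sum_equiv e _ _ fun k => (SGA1Q.galMap_tmul G A B g _ _).symm).symm
    rw [← h]
    split_ifs with hg
    · rw [hg, hf1]
    · exact hf0 g hg
  have hdual : ∀ a : A, a = ∑ k, (∑ g : G, g • (a * x k)) * y k := by
    intro a
    have h : ∀ g : G, ∑ k, (g • (a * x k)) * y k = g • a * (g • ∑ k, x k * (g⁻¹ • y k)) := fun g => by
      rw [Finset.smul_sum, Finset.mul_sum]
      exact Finset.sum_congr rfl fun k _ => by rw [smul_mul', smul_mul', smul_inv_smul]; ring
    simp only [Finset.sum_mul]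
    rw [Finset.sum_comm]
    simp only [h, hval]
    rw [Finset.sum_eq_single (1 : G) (fun g _ hg => by rw [if_neg (by simpa using hg), smul_zero, mul_zero])
      (fun h => absurd (Finset.mem_univ _) h)]
    simp
  refine ⟨⟨⟨Finset.univ.image y, eq_top_iff.2 fun a _ => ?_⟩⟩, ?_⟩
  · rw [hdual a]
    refine Submodule.sum_mem _ fun k _ => ?_
    obtain ⟨c, hc⟩ := Algebra.IsInvariant.isInvariant (A := B) (G := G) (∑ g : G, g • (a * x k)) fun h => by
      rw [Finset.smul_sum]
      simp_rw [smul_smul]
      exact Equiv.sum_comp (Equiv.mulLeft h) fun g => g • (a * x k)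
    rw [← hc, ← Algebra.smul_def]
    exact Submodule.smul_mem _ _ (Submodule.subset_span (by simp))
  · rw [Algebra.formallyUnramified_iff]
    have key : ∀ b : A, KaehlerDifferential.D B A b = 0 := fun b => by
      have h := MiscTwoH99.sq_smul_derivation_eq_zero (R := B) (r := 1) x y
        (fun g => by rw [hval, map_one]) (fun a => by rw [one_smul]; exact hdual a) (KaehlerDifferential.D B A) b
      simpa using h
    refine subsingleton_of_forall_eq 0 fun ω => ?_
    have hω : ω ∈ Submodule.span A (Set.range (KaehlerDifferential.D B A)) := by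
      rw [KaehlerDifferential.span_range_derivation]; trivial
    refine Submodule.span_induction ?_ rfl (fun a b _ _ ha hb => by rw [ha, hb, add_zero])
      (fun a b _ hb => by rw [hb, smul_zero]) hω
    rintro _ ⟨z, rfl⟩
    exact key z

theorem etale_inv : Algebra.Etale (Inv G A) A := by
  obtain ⟨h1, h2⟩ := finite_and_unramified hfree
  have := SGA1Q.projective_of_free G A (Inv G A) hfree
  have : Module.FinitePresentation (Inv G A) A := Module.finitePresentation_of_projective _ _
  have : Algebra.FinitePresentation (Inv G A) A := inferInstance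
  exact Algebra.Etale.of_formallyUnramified_of_flat

theorem comap_surjective_inv : Function.Surjective (PrimeSpectrum.comap (algebraMap (Inv G A) A)) := by
  obtain ⟨h1, -⟩ := finite_and_unramified hfree
  have := SGA1Q.projective_of_free G A (Inv G A) hfree
  exact (PrimeSpectrum.comap_surjective_iff_injective_of_finite (R := Inv G A) (S := A)).2 Subtype.val_injective

omit hfree in
/-- `A ⊗_B A` is the product of the graphs. -/
theorem bijective_galMaps (B : Type u) [CommRing B] [Algebra B A] [SMulCommClass G B A] [Algebra.IsInvariant B A G]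
    (hfree : ∀ g : G, g ≠ 1 → Ideal.span (Set.range fun a : A => a - g • a) = ⊤) :
    Function.Bijective (RingHom.pi fun g : G => (SGA1Q.galMap G A B g).toRingHom) := by
  classical
  have : Fintype G := Fintype.ofFinite G
  refine ⟨(injective_iff_map_eq_zero _).2 fun z hz =>
    SGA1Q.galMap_jointly_injective G A B hfree z fun g => congrFun hz g, fun c => ?_⟩
  choose t ht ht' using SGA1Q.exists_indicator G A B hfree
  refine ⟨∑ g, (c g ⊗ₜ[B] (1 : A)) * t g, funext fun h => ?_⟩
  show (SGA1Q.galMap G A B h).toRingHom (∑ g, (c g ⊗ₜ[B] (1 : A)) * t g) = c h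
  rw [map_sum, Finset.sum_eq_single h (fun g _ hg => by
      rw [map_mul]
      exact mul_eq_zero_of_right _ (ht' g h fun e => hg e.symm)) (fun h' => absurd (Finset.mem_univ _) h')]
  show SGA1Q.galMap G A B h _ = c h
  rw [map_mul, ht, SGA1Q.galMap_tmul, smul_one, mul_one, mul_one]

end Groth.Agent.AlgStkX.FieldChart
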