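import Groth.Prelude.Def_AlgSp
import Groth.Agent.AlgSpDec.FiniteQuot

/-!
# Finite families of representable fibre products
-/

set_option autoImplicit false
set_option backward.isDefEq.respectTransparency false
set_option backward.isDefEq.respectTransparency.types false

universe u

open CategoryTheory CategoryTheory.Limits AlgebraicGeometry AlgSp

namespace Groth.Agent.AlgStkX.FieldChart

variable {S : Scheme.{u}} {X : Sp S}

/-- A scheme with jointly monomorphic maps to separated schemes is separated. -/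
theorem isSeparated_of_jointly_mono {P V W : Scheme.{u}} [V.IsSeparated] [W.IsSeparated] (f : P ⟶ V) (g : P ⟶ W)
    (h : ∀ {Z : Scheme.{u}} (a b : Z ⟶ P), a ≫ f = b ≫ f → a ≫ g = b ≫ g → a = b) : P.IsSeparated := by
  let m : P ⟶ pullback (terminal.from V) (terminal.from W) := pullback.lift f g (Subsingleton.elim _ _)
  have : Mono m := ⟨fun a b e => h a b
    (by simpa [m] using congrArg (· ≫ pullback.fst _ _) e) (by simpa [m] using congrArg (· ≫ pullback.snd _ _) e)⟩
  refine ⟨?_⟩
  rw [show terminal.from P = m ≫ pullback.fst _ _ ≫ terminal.from V from Subsingleton.elim _ _]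
  infer_instance

/-- Successive fibre products with affine charts. -/
theorem exists_fin_family {Q : MorphismProperty Scheme.{u}} [Q.IsMultiplicative] [Q.IsStableUnderBaseChange]
    {m : ℕ} {V : Fin m → Over S} (a : ∀ i, (yon S).obj (V i) ⟶ X) (ha : ∀ i, RepWith Q (a i))
    [∀ i, IsAffine (V i).left] (P₀ : Over S) [P₀.left.IsSeparated] (ξ : Fin m → ((yon S).obj P₀ ⟶ X)) :
    ∃ (P : Over S) (π : P ⟶ P₀) (y : ∀ i, P ⟶ V i), P.left.IsSeparated ∧ Q π.left ∧
      (∀ i, (yon S).map (y i) ≫ a i = (yon S).map π ≫ ξ i) ∧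
      (∀ {T : Over S} (l l' : T ⟶ P), l ≫ π = l' ≫ π → (∀ i, l ≫ y i = l' ≫ y i) → l = l') ∧
      ∀ {T : Over S} (t : T ⟶ P₀) (z : ∀ i, T ⟶ V i), (∀ i, (yon S).map (z i) ≫ a i = (yon S).map t ≫ ξ i) →
        ∃ l : T ⟶ P, l ≫ π = t ∧ ∀ i, l ≫ y i = z i := by
  induction m with
  | zero =>
    exact ⟨P₀, 𝟙 P₀, fun i => i.elim0, inferInstance, Q.id_mem _, fun i => i.elim0,
      fun l l' h _ => by simpa using h, fun t z _ => ⟨t, Category.comp_id t, fun i => i.elim0⟩⟩
  | succ m ih =>
    obtain ⟨P, π, y, hsep, hQ, hy, hext, hlift⟩ := ih (fun i => a i.succ) (fun i => ha i.succ) (fun i => ξ i.succ)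
    let g : (yon S).obj P ⟶ X := (yon S).map π ≫ ξ 0
    let P' := (ha 0).rep.pullback g
    let f : P' ⟶ P := (ha 0).rep.snd g
    let q : P' ⟶ V 0 := (ha 0).rep.fst' g
    have sq : IsPullback ((yon S).map q) ((yon S).map f) (a 0) g := (ha 0).rep.isPullback' g
    refine ⟨P', f ≫ π, Fin.cons q (fun i => f ≫ y i), ?_, Q.comp_mem _ _ ((ha 0).property_snd g) hQ,
      fun i => ?_, fun {T} l l' h₁ h₂ => ?_, fun {T} t z hz => ?_⟩
    · refine isSeparated_of_jointly_mono q.left f.left fun {Z} c d hc hd => ?_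
      let ZS : Over S := Over.mk (c ≫ P'.hom)
      let c' : ZS ⟶ P' := Over.homMk c rfl
      let d' : ZS ⟶ P' := Over.homMk d (by
        show d ≫ P'.hom = c ≫ P'.hom
        rw [← Over.w f, ← Category.assoc, ← hd, Category.assoc])
      have h1 : c' ≫ q = d' ≫ q := Over.OverMorphism.ext hc
      have h2 : c' ≫ f = d' ≫ f := Over.OverMorphism.ext hd
      have := (yon S).map_injective (sq.hom_ext (k := (yon S).map c') (l := (yon S).map d')
        (by rw [← Functor.map_comp, ← Functor.map_comp, h1]) (by rw [← Functor.map_comp, ← Functor.map_comp, h2]))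
      exact congrArg (fun k : ZS ⟶ P' => k.left) this
    · refine Fin.cases ?_ (fun i => ?_) i
      · rw [Fin.cons_zero, sq.w, Functor.map_comp, Category.assoc]
      · rw [Fin.cons_succ, Functor.map_comp, Category.assoc, hy, Functor.map_comp, Category.assoc]
    · have hf : l ≫ f = l' ≫ f := hext _ _ (by simpa using h₁) fun i => by
        have := h₂ i.succ
        rw [Fin.cons_succ] at this
        simpa using this
      have hq : l ≫ q = l' ≫ q := by
        have := h₂ 0
        rwa [Fin.cons_zero] at this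
      exact (yon S).map_injective (sq.hom_ext (by rw [← Functor.map_comp, ← Functor.map_comp, hq])
        (by rw [← Functor.map_comp, ← Functor.map_comp, hf]))
    · obtain ⟨l, hl, hly⟩ := hlift t (fun i => z i.succ) fun i => hz i.succ
      obtain ⟨r, hr⟩ := (yon S).map_surjective (sq.lift ((yon S).map (z 0)) ((yon S).map l) (by
        show _ = (yon S).map l ≫ (yon S).map π ≫ ξ 0
        rw [hz, ← Functor.map_comp_assoc, hl]))
      have hr₁ : r ≫ q = z 0 := (yon S).map_injective (by rw [Functor.map_comp, hr, sq.lift_fst])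
      have hr₂ : r ≫ f = l := (yon S).map_injective (by rw [Functor.map_comp, hr, sq.lift_snd])
      refine ⟨r, by rw [← Category.assoc, hr₂, hl], fun i => ?_⟩
      refine Fin.cases ?_ (fun i => ?_) i
      · rw [Fin.cons_zero, hr₁]
      · rw [Fin.cons_succ, ← Category.assoc, hr₂, hly]

/-- Fibre products with a finite family of affine charts. -/
theorem exists_family {Q : MorphismProperty Scheme.{u}} [Q.IsMultiplicative] [Q.IsStableUnderBaseChange]
    {ι : Type*} [Finite ι] {V : ι → Over S} (a : ∀ i, (yon S).obj (V i) ⟶ X) (ha : ∀ i, RepWith Q (a i))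
    [∀ i, IsAffine (V i).left] (P₀ : Over S) [P₀.left.IsSeparated] (ξ : ι → ((yon S).obj P₀ ⟶ X)) :
    ∃ (P : Over S) (π : P ⟶ P₀) (y : ∀ i, P ⟶ V i), P.left.IsSeparated ∧ Q π.left ∧
      (∀ i, (yon S).map (y i) ≫ a i = (yon S).map π ≫ ξ i) ∧
      (∀ {T : Over S} (l l' : T ⟶ P), l ≫ π = l' ≫ π → (∀ i, l ≫ y i = l' ≫ y i) → l = l') ∧
      ∀ {T : Over S} (t : T ⟶ P₀) (z : ∀ i, T ⟶ V i), (∀ i, (yon S).map (z i) ≫ a i = (yon S).map t ≫ ξ i) →
        ∃ l : T ⟶ P, l ≫ π = t ∧ ∀ i, l ≫ y i = z i := by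
  obtain ⟨m, ⟨e⟩⟩ := Finite.exists_equiv_fin ι
  obtain ⟨P, π, y, hsep, hQ, hy, hext, hlift⟩ :=
    exists_fin_family (fun j => a (e.symm j)) (fun j => ha _) P₀ (fun j => ξ (e.symm j))
  let y' : ∀ i, P ⟶ V i := fun i => y (e i) ≫ eqToHom (congrArg V (e.symm_apply_apply i))
  have hy' : ∀ j, y j = y' (e.symm j) := fun j => by
    have key : ∀ (k : Fin m) (hk : k = j), y j = y k ≫ eqToHom (by rw [hk]) := by
      rintro k rfl; simp
    exact key _ (e.apply_symm_apply j)
  refine ⟨P, π, y', hsep, hQ, fun i => ?_, fun l l' h h' => hext l l' h fun j => by rw [hy' j, h'],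
    fun t z hz => ?_⟩
  · obtain ⟨j, rfl⟩ := e.symm.surjective i
    rw [← hy']
    exact hy j
  · obtain ⟨l, hl, hl'⟩ := hlift t (fun j => z (e.symm j)) (fun j => hz _)
    refine ⟨l, hl, fun i => ?_⟩
    obtain ⟨j, rfl⟩ := e.symm.surjective i
    rw [← hy']
    exact hl' j

end Groth.Agent.AlgStkX.FieldChart
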