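import Groth.Agent.AlgStkX.FieldChart.Space
import Groth.Agent.AlgStkX.FieldChart.Pullbacks
import Groth.Agent.AlgStkX.FieldChart.AffineBase
import Groth.Agent.AlgSpLib.LocP

/-!
# The scheme of tuples of a chart with compatible isomorphisms
-/

set_option autoImplicit false
set_option backward.isDefEq.respectTransparency false
set_option backward.isDefEq.respectTransparency.types false

universe u

open CategoryTheory CategoryTheory.Functor CategoryTheory.Limits AlgebraicGeometry Opposite AlgSp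
open Groth.Agent.AlgSpLib

namespace Groth.Agent.AlgStkX.FieldChart

variable {S : Scheme.{u}} {𝒵 : AlgSt.Cat S} {U : Over S} {p : FibCat.overCat U ⥤ᵇ 𝒵}
  {hZ : FibCat.IsFibGrpd 𝒵.p}

/-- The point of the space of a chart-valued point. -/
noncomputable def chartElt (Φ : IsoSpace p hZ) {V T : Over S} (a : (yon S).obj V ⟶ Φ.F) (v : T ⟶ V) : Elt p T :=
  Φ.elt ((yon S).map v ≫ a)

theorem chartElt_comp (Φ : IsoSpace p hZ) {V T' T : Over S} (a : (yon S).obj V ⟶ Φ.F) (f : T' ⟶ T) (v : T ⟶ V) :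
    chartElt Φ a (f ≫ v) = pull hZ f (chartElt Φ a v) := by
  rw [chartElt, Functor.map_comp, Category.assoc, Φ.elt_comp]
  rfl

variable (Φ : IsoSpace p hZ) (G : Type u) [Group G] {V : G → Over S} (a : ∀ ρ, (yon S).obj (V ρ) ⟶ Φ.F)

/-- A tuple of points of the chart indexed by a group, with lifts of compatible isomorphisms. -/
structure Tup (T : Over S) where
  g : G → (T ⟶ U)
  w : G → Γ(T.left, ⊤)
  hw : ∀ σ τ, σ ≠ τ → IsUnit (w σ - w τ)
  v : G → ∀ ρ, T ⟶ V ρ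
  src : ∀ σ ρ, (chartElt Φ (a ρ) (v σ ρ)).g₁ = g σ
  mul : ∀ σ ρ ρ', IsMul (chartElt Φ (a ρ) (v σ ρ)) (chartElt Φ (a ρ') (v (σ * ρ) ρ'))
    (chartElt Φ (a (ρ * ρ')) (v σ (ρ * ρ')))

variable {Φ G a}

theorem Tup.ext' {T : Over S} {t t' : Tup Φ G a T} (hw : t.w = t'.w) (hv : t.v = t'.v) : t = t' := by
  obtain ⟨g, w, h1, v, h2, h3⟩ := t
  obtain ⟨g', w', h1', v', h2', h3'⟩ := t'
  dsimp only at hw hv
  subst hw hv
  obtain rfl : g = g' := funext fun σ => (h2 σ 1).symm.trans (h2' σ 1)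
  rfl

/-- Restriction of tuples. -/
noncomputable def Tup.pull {T' T : Over S} (f : T' ⟶ T) (t : Tup Φ G a T) : Tup Φ G a T' where
  g σ := f ≫ t.g σ
  w σ := f.left.appTop (t.w σ)
  hw σ τ h := by
    rw [← _root_.map_sub]
    exact (t.hw σ τ h).map _
  v σ ρ := f ≫ t.v σ ρ
  src σ ρ := by rw [chartElt_comp, pull_g₁, t.src]
  mul σ ρ ρ' := by
    rw [chartElt_comp, chartElt_comp, chartElt_comp]
    exact (t.mul σ ρ ρ').pull hZ f

theorem Tup.pull_comp {T'' T' T : Over S} (f' : T'' ⟶ T') (f : T' ⟶ T) (t : Tup Φ G a T) :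
    (t.pull f).pull f' = t.pull (f' ≫ f) := by
  refine Tup.ext' (funext fun σ => ?_) (funext fun σ => funext fun ρ => (Category.assoc _ _ _).symm)
  show f'.left.appTop (f.left.appTop (t.w σ)) = (f' ≫ f).left.appTop (t.w σ)
  rw [Over.comp_left, Scheme.Hom.comp_appTop]
  rfl

theorem Tup.pull_id {T : Over S} (t : Tup Φ G a T) : t.pull (𝟙 T) = t :=
  Tup.ext' (funext fun σ => by show Scheme.Hom.appTop (𝟙 T.left) _ = _; rw [Scheme.Hom.id_appTop]; rfl)
    (funext fun σ => funext fun ρ => Category.id_comp _)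

/-- The translate of a tuple. -/
noncomputable def Tup.act (τ : G) {T : Over S} (t : Tup Φ G a T) : Tup Φ G a T where
  g σ := t.g (τ * σ)
  w σ := t.w (τ * σ)
  hw σ σ' h := t.hw _ _ fun e => h (mul_left_cancel e)
  v σ ρ := t.v (τ * σ) ρ
  src σ ρ := t.src _ ρ
  mul σ ρ ρ' := by
    have h := t.mul (τ * σ) ρ ρ'
    rwa [mul_assoc τ σ ρ] at h

theorem Tup.act_pull (τ : G) {T' T : Over S} (f : T' ⟶ T) (t : Tup Φ G a T) :
    (t.pull f).act τ = (t.act τ).pull f := rfl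

theorem Tup.act_act (τ τ' : G) {T : Over S} (t : Tup Φ G a T) : (t.act τ).act τ' = t.act (τ * τ') :=
  Tup.ext' (funext fun σ => congrArg t.w (mul_assoc τ τ' σ).symm)
    (funext fun σ => funext fun ρ => congrArg (fun x => t.v x ρ) (mul_assoc τ τ' σ).symm)

theorem Tup.act_one {T : Over S} (t : Tup Φ G a T) : t.act 1 = t :=
  Tup.ext' (funext fun σ => congrArg t.w (one_mul σ))
    (funext fun σ => funext fun ρ => congrArg (fun x => t.v x ρ) (one_mul σ))

theorem Tup.one_one {T : Over S} (t : Tup Φ G a T) (σ : G) : chartElt Φ (a 1) (t.v σ 1) = Elt.one (t.g σ) := by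
  have h := t.mul σ 1 1
  have key : ∀ (x y : G), x = σ → y = 1 → IsMul (chartElt Φ (a 1) (t.v σ 1)) (chartElt Φ (a 1) (t.v x 1))
      (chartElt Φ (a y) (t.v σ y)) → IsMul (chartElt Φ (a 1) (t.v σ 1)) (chartElt Φ (a 1) (t.v σ 1))
      (chartElt Φ (a 1) (t.v σ 1)) := by rintro x y rfl rfl h; exact h
  rw [eq_one_of_isMul_self hZ (key _ _ (mul_one σ) (mul_one 1) h), t.src]

/-- A scheme of tuples, smooth over the chart. -/
theorem exists_tupSpace [Finite G] [IsAffine U.left] [∀ ρ, IsAffine (V ρ).left] (ha : ∀ ρ, RepWith @Etale (a ρ)) :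
    ∃ (P : Over S) (univ : Tup Φ G a P), P.left.IsSeparated ∧ Smooth (univ.g 1).left ∧
      (∀ {T : Over S} (t : Tup Φ G a T), ∃ l : T ⟶ P, univ.pull l = t) ∧
      ∀ {T : Over S} (l l' : T ⟶ P), univ.pull l = univ.pull l' → l = l' := by
  classical
  obtain ⟨T₀, g₀, w₀, hT₀, hg₀, hw₀, hext₀, hlift₀⟩ := exists_tuple_base U G
  -- first stage
  let J := {ρ : G // ρ ≠ 1}
  choose s hs using fun j : J => (yon S).map_surjective (a j.1 ≫ Φ.src)
  have hssm : ∀ j : J, RepWith @Smooth ((yon S).map (s j)) := fun j => (repWith_yon_map_iff _ _).2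
    (Φ.smooth (a j.1) (𝟙 _) (s j) (ha j.1) (repWith_id _ U) (by rw [Category.comp_id, hs]))
  obtain ⟨P₂, π₂, y₂, hsep₂, hsm₂, hy₂, hext₂, hlift₂⟩ := exists_family (Q := @Smooth) (X := (yon S).obj U)
    (fun j : J => (yon S).map (s j)) hssm T₀ (fun _ => (yon S).map g₀)
  have hs₂ : ∀ j : J, (chartElt Φ (a j.1) (y₂ j)).g₁ = π₂ ≫ g₀ := fun j => (yon S).map_injective (by
    have := hy₂ j
    rw [chartElt, ← Φ.comp_src ((yon S).map (y₂ j) ≫ a j.1), Category.assoc, ← hs, this, Functor.map_comp])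
  let c₀ : G → Elt p P₂ := fun σ => if h : σ = 1 then Elt.one (π₂ ≫ g₀) else chartElt Φ (a σ) (y₂ ⟨σ, h⟩)
  have hc₀ : ∀ σ, (c₀ σ).g₁ = π₂ ≫ g₀ := fun σ => by
    simp only [c₀]
    split_ifs with h
    · rfl
    · exact hs₂ _
  -- second stage
  let I := {q : G × G // q.1 ≠ 1 ∨ q.2 = 1}
  have hquot : ∀ q : I, ∃ ξ : (yon S).obj P₂ ⟶ Φ.F, IsMul (c₀ q.1.1) (Φ.elt ξ) (c₀ (q.1.1 * q.1.2)) := by
    intro q
    obtain ⟨i, hi₁, hi₂, hi, -⟩ := exists_inv hZ (c₀ q.1.1)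
    obtain ⟨x, hx⟩ := exists_isMul i (c₀ (q.1.1 * q.1.2)) (by rw [hi₂, hc₀, hc₀])
    obtain ⟨ξ, rfl⟩ := (Φ.bij P₂).2 x
    refine ⟨ξ, ?_⟩
    obtain ⟨z, hz⟩ := exists_isMul (c₀ q.1.1) (Φ.elt ξ) (by rw [hx.g₁_eq, hi₁])
    obtain ⟨z', hz'⟩ := exists_isMul (Elt.one (c₀ q.1.1).g₁) (c₀ (q.1.1 * q.1.2))
      (show (c₀ q.1.1).g₁ = _ by rw [hc₀, hc₀])
    have h2 := (hi.assoc hx hz')
    have e : c₀ (q.1.1 * q.1.2) = z' := by
      have h := one_isMul (c₀ (q.1.1 * q.1.2))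
      rw [show (c₀ (q.1.1 * q.1.2)).g₁ = (c₀ q.1.1).g₁ by rw [hc₀, hc₀]] at h
      exact h.unique hz'
    rw [e]
    exact h2
  choose ξ hξ using hquot
  obtain ⟨P, π, y, hsep, het, hy, hext, hlift⟩ := exists_family (Q := @Etale)
    (fun q : I => a q.1.2) (fun q => ha q.1.2) P₂ ξ
  let C : G → Elt p P := fun σ => pull hZ π (c₀ σ)
  let v : G → ∀ ρ, P ⟶ V ρ := fun σ ρ =>
    if h : σ ≠ 1 ∨ ρ = 1 then y ⟨(σ, ρ), h⟩ else π ≫ y₂ ⟨ρ, fun e => h (Or.inr e)⟩
  have hyelt : ∀ q : I, chartElt Φ (a q.1.2) (y q) = pull hZ π (Φ.elt (ξ q)) := fun q => by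
    rw [chartElt, hy, Φ.elt_comp]
  have hC : ∀ σ ρ, IsMul (C σ) (chartElt Φ (a ρ) (v σ ρ)) (C (σ * ρ)) := by
    intro σ ρ
    simp only [v]
    split_ifs with h
    · rw [hyelt ⟨(σ, ρ), h⟩]
      exact (hξ ⟨(σ, ρ), h⟩).pull hZ π
    · rw [not_or, not_not] at h
      obtain ⟨rfl, hρ⟩ := h
      rw [chartElt_comp, show C 1 = pull hZ π (Elt.one (π₂ ≫ g₀)) by simp [C, c₀],
        show C (1 * ρ) = pull hZ π (chartElt Φ (a ρ) (y₂ ⟨ρ, hρ⟩)) by simp [C, c₀, hρ],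
        ← hs₂ ⟨ρ, hρ⟩]
      exact (one_isMul _).pull hZ π
  let g : G → (P ⟶ U) := fun σ => (C σ).g₂
  let univ : Tup Φ G a P :=
    { g := g
      w := fun σ => (π ≫ π₂).left.appTop (w₀ σ)
      hw := fun σ τ h => by
        rw [← _root_.map_sub]
        exact (hw₀ σ τ h).map _
      v := v
      src := fun σ ρ => (hC σ ρ).mid.symm
      mul := fun σ ρ ρ' => by
        have h3 := hC σ (ρ * ρ')
        rw [← mul_assoc] at h3
        exact isMul_of_quot hZ (hC σ ρ) (hC (σ * ρ) ρ') h3 }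
  have hg1 : univ.g 1 = π ≫ π₂ ≫ g₀ := by
    show (pull hZ π (c₀ 1)).g₂ = _
    rw [pull_g₂]
    simp [c₀, Elt.one]
  refine ⟨P, univ, hsep, ?_, fun {T} t => ?_, fun {T} l l' h => ?_⟩
  · rw [hg1]
    have : Smooth π₂.left := hsm₂
    have : Etale π.left := het
    exact inferInstanceAs (Smooth (π.left ≫ π₂.left ≫ g₀.left))
  · obtain ⟨l₀, hl₀, hl₀w⟩ := hlift₀ (t.g 1) t.w t.hw
    obtain ⟨l₂, hl₂, hl₂y⟩ := hlift₂ l₀ (fun j => t.v 1 j.1) fun j => by
      rw [hs, ← Category.assoc, Φ.comp_src, ← Functor.map_comp, hl₀]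
      exact congrArg _ (t.src 1 j.1)
    have hc : ∀ σ, pull hZ l₂ (c₀ σ) = chartElt Φ (a σ) (t.v 1 σ) := fun σ => by
      simp only [c₀]
      split_ifs with h
      · subst h
        rw [pull_one, ← Category.assoc, hl₂, hl₀, t.one_one]
      · rw [← chartElt_comp, hl₂y]
    obtain ⟨l, hl, hly⟩ := hlift l₂ (fun q => t.v q.1.1 q.1.2) fun q => by
      refine (Φ.bij T).1 ?_
      rw [Φ.elt_comp l₂]
      show chartElt Φ (a q.1.2) (t.v q.1.1 q.1.2) = _
      have h1 := (hξ q).pull hZ l₂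
      rw [hc, hc] at h1
      have h2 := t.mul 1 q.1.1 q.1.2
      rw [one_mul] at h2
      exact h2.left_cancel hZ h1
    refine ⟨l, Tup.ext' (funext fun σ => ?_) (funext fun σ => funext fun ρ => ?_)⟩
    · show l.left.appTop ((π ≫ π₂).left.appTop (w₀ σ)) = t.w σ
      rw [← hl₀w, ← hl₂, ← hl, ← CommRingCat.comp_apply, ← Scheme.Hom.comp_appTop, ← Over.comp_left,
        Category.assoc]
    · show l ≫ v σ ρ = t.v σ ρ
      simp only [v]
      split_ifs with h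
      · exact hly ⟨(σ, ρ), h⟩
      · rw [not_or, not_not] at h
        obtain ⟨rfl, hρ⟩ := h
        rw [← Category.assoc, hl, hl₂y]
  · have hv : ∀ σ ρ, l ≫ v σ ρ = l' ≫ v σ ρ := fun σ ρ => congrFun (congrFun (congrArg Tup.v h) σ) ρ
    have hg : l ≫ univ.g 1 = l' ≫ univ.g 1 := congrFun (congrArg Tup.g h) 1
    rw [hg1] at hg
    refine hext l l' (hext₂ _ _ (hext₀ _ _ (by simpa using hg) fun σ => ?_) fun j => ?_) fun q => ?_
    · have := congrFun (congrArg Tup.w h) σ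
      show ((l ≫ π) ≫ π₂).left.appTop _ = ((l' ≫ π) ≫ π₂).left.appTop _
      rw [Category.assoc, Category.assoc, Over.comp_left, Over.comp_left, Scheme.Hom.comp_appTop,
        Scheme.Hom.comp_appTop]
      exact this
    · have := hv 1 j.1
      simp only [v] at this
      rw [dif_neg (by simp [j.2])] at this
      simpa using this
    · have := hv q.1.1 q.1.2
      simp only [v] at this
      rwa [dif_pos q.2] at this

end Groth.Agent.AlgStkX.FieldChart
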