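import Groth.Agent.AlgStkX.FieldChart.Point
import Groth.Agent.AlgStkX.FieldChart.Tuple
import Groth.Agent.AlgSpQ4.Elementary
import Mathlib.FieldTheory.Galois.Basic
import Mathlib.FieldTheory.PrimitiveElement
import Mathlib.RingTheory.Etale.Field

/-!
# The tuple of a Galois point
-/

set_option autoImplicit false
set_option backward.isDefEq.respectTransparency false
set_option backward.isDefEq.respectTransparency.types false

universe u

open CategoryTheory CategoryTheory.Functor AlgebraicGeometry AlgSp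
open Groth.Agent.AlgSpDec Groth.Agent.AlgSpQ4

namespace Groth.Agent.AlgStkX.FieldChart

variable {S : Scheme.{u}} {k L : Type u} [Field k] [Field L] [Algebra k L] (sk : Spec (CommRingCat.of k) ⟶ S)

/-- The spectrum of an extension of a field point. -/
noncomputable abbrev extPt (L : Type u) [Field L] [Algebra k L] : Over S :=
  Over.mk (Spec.map (CommRingCat.ofHom (algebraMap k L)) ≫ sk)

/-- The projection to the field point. -/
noncomputable abbrev extProj (L : Type u) [Field L] [Algebra k L] : extPt sk L ⟶ Over.mk sk :=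
  Over.homMk (Spec.map (CommRingCat.ofHom (algebraMap k L))) rfl

/-- The Galois action on the spectrum. -/
noncomputable abbrev galAct (σ : L ≃ₐ[k] L) : extPt sk L ⟶ extPt sk L :=
  Over.homMk (Spec.map (CommRingCat.ofHom (MulSemiringAction.toRingHom (L ≃ₐ[k] L) L σ))) (by
    show Spec.map _ ≫ Spec.map _ ≫ sk = Spec.map _ ≫ sk
    rw [← Spec.map_comp_assoc]
    congr 2
    ext x
    exact σ.commutes x)

theorem galAct_mul (σ τ : L ≃ₐ[k] L) : galAct sk (σ * τ) = galAct sk σ ≫ galAct sk τ := by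
  refine Over.OverMorphism.ext ?_
  show Spec.map _ = Spec.map _ ≫ Spec.map _
  rw [← Spec.map_comp]
  rfl

theorem galAct_one : galAct sk (1 : L ≃ₐ[k] L) = 𝟙 (extPt sk L) := by
  refine Over.OverMorphism.ext ?_
  show Spec.map _ = 𝟙 _
  rw [← Spec.map_id]
  rfl

theorem galAct_proj (σ : L ≃ₐ[k] L) : galAct sk σ ≫ extProj sk L = extProj sk L := by
  refine Over.OverMorphism.ext ?_
  show Spec.map _ ≫ Spec.map _ = Spec.map _
  rw [← Spec.map_comp]
  congr 1
  ext x
  exact σ.commutes x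

variable [FiniteDimensional k L]

theorem etale_extProj [Algebra.IsSeparable k L] : Etale (extProj sk L).left ∧ Surjective (extProj sk L).left := by
  have : Algebra.FormallyEtale k L := Algebra.FormallyEtale.of_isSeparable k L
  have : Algebra.FinitePresentation k L := Algebra.FinitePresentation.of_finiteType.mp inferInstance
  have : Algebra.Etale k L := ⟨inferInstance, this⟩
  refine ⟨?_, ⟨fun p => ⟨IsLocalRing.closedPoint L, Subsingleton.elim (α := PrimeSpectrum k) _ _⟩⟩⟩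
  show Etale (Spec.map _)
  rw [HasRingHomProperty.Spec_iff (P := @Etale)]
  exact RingHom.etale_algebraMap.2 this

variable [IsGalois k L] {𝒵 : AlgSt.Cat S} {U : Over S} {p : FibCat.overCat U ⥤ᵇ 𝒵} {hZ : FibCat.IsFibGrpd 𝒵.p}
  (Φ : IsoSpace p hZ) {x : FibCat.overCat (Over.mk sk) ⥤ᵇ 𝒵}

theorem exists_galois_tuple (u : extPt sk L ⟶ U) (φ₀ : Po p u ⟶ x.obj (sob (extProj sk L)))
    (hφ₀ : 𝒵.p.IsHomLift (𝟙 (extPt sk L)) φ₀) :
    ∃ (V : (L ≃ₐ[k] L) → Over S) (a : ∀ ρ, (yon S).obj (V ρ) ⟶ Φ.F) (_ : ∀ ρ, IsAffine (V ρ).left)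
      (_ : ∀ ρ, RepWith @Etale (a ρ)) (t : Tup Φ (L ≃ₐ[k] L) a (extPt sk L))
      (Φb : ∀ {T : Over S} (b : T ⟶ extPt sk L), Po p (b ≫ u) ⟶ x.obj (sob (b ≫ extProj sk L)))
      (θx : ∀ {T : Over S} (b b' : T ⟶ extPt sk L), b ≫ extProj sk L = b' ≫ extProj sk L → Elt p T),
      t.g 1 = u ∧ (∀ σ, t.pull (galAct sk σ) = t.act σ) ∧
      (∀ {T : Over S} (b : T ⟶ extPt sk L), 𝒵.p.IsHomLift (𝟙 T) (Φb b)) ∧
      (∀ {T' T : Over S} (f : T' ⟶ T) (b : T ⟶ extPt sk L) (b' : T' ⟶ extPt sk L) (_ : f ≫ b = b'),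
        IsRes f (Φb b) (Φb b')) ∧
      (∀ {T : Over S} (b b' : T ⟶ extPt sk L) (h : b ≫ extProj sk L = b' ≫ extProj sk L)
        (a₁ : (θx b b' h).g₁ = b ≫ u) (a₂ : (θx b b' h).g₂ = b' ≫ u),
        (θx b b' h).arr a₁ a₂ ≫ Φb b' = Φb b ≫ eqToHom (congrArg (fun c => x.obj (sob c)) h)) ∧
      (∀ {T' T : Over S} (f : T' ⟶ T) (b b' : T ⟶ extPt sk L) (h : b ≫ extProj sk L = b' ≫ extProj sk L)
        (c c' : T' ⟶ extPt sk L) (hc : f ≫ b = c) (hc' : f ≫ b' = c'),
        pull hZ f (θx b b' h) = θx c c' (by rw [← hc, ← hc', Category.assoc, h, Category.assoc])) ∧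
      ∀ σ, chartElt Φ (a σ) (t.v 1 σ) = θx (𝟙 _) (galAct sk σ) (by rw [galAct_proj, Category.id_comp]) := by
  obtain ⟨Φb, hΦb, hΦn⟩ := exists_restrictions hZ (extProj sk L) u φ₀ hφ₀
  obtain ⟨θx, hx₁, hx₂, hxn, hxm, hxa⟩ := exists_pointDatum hZ (extProj sk L) u Φb hΦb hΦn
  have hproj : ∀ σ τ : L ≃ₐ[k] L, galAct sk σ ≫ extProj sk L = galAct sk τ ≫ extProj sk L := fun σ τ => by
    rw [galAct_proj, galAct_proj]
  choose ξ hξ using fun ρ : L ≃ₐ[k] L =>
    (Φ.bij (extPt sk L)).2 (θx (𝟙 _) (galAct sk ρ) (by rw [galAct_proj, Category.id_comp]))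
  choose V a v₀ hV ha hv₀ using fun ρ => exists_affine_chart_through Φ.isAlgSpace
    (σ := (extPt sk L).hom) (ξ ρ)
  have hc : ∀ σ ρ, chartElt Φ (a ρ) (galAct sk σ ≫ v₀ ρ) = θx (galAct sk σ) (galAct sk (σ * ρ)) (hproj _ _) := by
    intro σ ρ
    rw [chartElt_comp, chartElt, hv₀, hξ, hxn _ _ _ _ _ _ (Category.comp_id _) (galAct_mul sk σ ρ).symm]
  obtain ⟨θ, hθ⟩ := Field.exists_primitive_element k L
  let w : (L ≃ₐ[k] L) → Γ((extPt sk L).left, ⊤) := fun σ => (Scheme.ΓSpecIso (CommRingCat.of L)).inv (σ θ)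
  have hw : ∀ σ τ, σ ≠ τ → IsUnit (w σ - w τ) := fun σ τ h => by
    show IsUnit ((Scheme.ΓSpecIso (CommRingCat.of L)).inv (σ θ) - (Scheme.ΓSpecIso (CommRingCat.of L)).inv (τ θ))
    rw [← _root_.map_sub]
    refine (isUnit_iff_ne_zero.2 (sub_ne_zero.2 fun e => h ?_)).map
      (Scheme.ΓSpecIso (CommRingCat.of L)).inv.hom
    refine AlgEquiv.ext fun y => ?_
    have hy : y ∈ IntermediateField.adjoin k {θ} := hθ ▸ IntermediateField.mem_top
    induction hy using IntermediateField.adjoin_induction with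
    | mem z hz => rw [Set.mem_singleton_iff.1 hz]; exact e
    | algebraMap z => rw [σ.commutes, τ.commutes]
    | add z z' _ _ hz hz' => rw [_root_.map_add, _root_.map_add, hz, hz']
    | inv z _ hz => rw [map_inv₀, map_inv₀, hz]
    | mul z z' _ _ hz hz' => rw [_root_.map_mul, _root_.map_mul, hz, hz']
  let t : Tup Φ (L ≃ₐ[k] L) a (extPt sk L) :=
    { g := fun σ => galAct sk σ ≫ u
      w := w
      hw := hw
      v := fun σ ρ => galAct sk σ ≫ v₀ ρ
      src := fun σ ρ => by rw [hc, hx₁]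
      mul := fun σ ρ ρ' => by
        rw [hc, hc, hc]
        have h := hxm (galAct sk σ) (galAct sk (σ * ρ)) (galAct sk (σ * ρ * ρ')) (hproj _ _) (hproj _ _)
        have key : ∀ (e : L ≃ₐ[k] L) (_ : e = σ * ρ * ρ'), θx (galAct sk σ) (galAct sk e) (hproj _ _) =
            θx (galAct sk σ) (galAct sk (σ * ρ * ρ')) (hproj _ _) := by rintro _ rfl; rfl
        rw [key _ (mul_assoc σ ρ ρ').symm]
        exact h }
  refine ⟨V, a, hV, ha, t, Φb, θx, ?_, fun σ => ?_, hΦb, hΦn, hxa, hxn, fun σ => ?_⟩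
  · show galAct sk 1 ≫ u = u
    rw [galAct_one, Category.id_comp]
  · refine Tup.ext' (funext fun τ => ?_) (funext fun τ => funext fun ρ => ?_)
    · show (galAct sk σ).left.appTop ((Scheme.ΓSpecIso (CommRingCat.of L)).inv (τ θ)) =
        (Scheme.ΓSpecIso (CommRingCat.of L)).inv ((σ * τ) θ)
      exact (congr($(Scheme.ΓSpecIso_inv_naturality
        (CommRingCat.ofHom (MulSemiringAction.toRingHom (L ≃ₐ[k] L) L σ))) (τ θ))).symm
    · show galAct sk σ ≫ galAct sk τ ≫ v₀ ρ = galAct sk (σ * τ) ≫ v₀ ρ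
      rw [galAct_mul, Category.assoc]
  · show chartElt Φ (a σ) (galAct sk 1 ≫ v₀ σ) = _
    rw [galAct_one, Category.id_comp, chartElt, hv₀, hξ]

end Groth.Agent.AlgStkX.FieldChart
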