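import Groth.Agent.AlgStkX.FieldChart.GalRing
import Groth.Agent.AlgSpDec.Glue
import Mathlib.AlgebraicGeometry.Pullbacks
import Mathlib.AlgebraicGeometry.Limits

/-!
# The graphs of a free affine action
-/

set_option autoImplicit false
set_option backward.isDefEq.respectTransparency false
set_option backward.isDefEq.respectTransparency.types false

universe u

open CategoryTheory CategoryTheory.Limits AlgebraicGeometry AlgSp TensorProduct

namespace Groth.Agent.AlgStkX.FieldChart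

open Groth.Agent.AlgSpDec

variable {S : Scheme.{u}}

/-- Pairs of points with the same image are the disjoint union of the graphs. -/
structure Graph {O Z : Over S} (π : O ⟶ Z) {G : Type u} (ρ : G → (O ⟶ O)) where
  K : Over S
  p₁ : K ⟶ O
  p₂ : K ⟶ O
  w : p₁ ≫ π = p₂ ≫ π
  lift : ∀ {T : Over S} (y₁ y₂ : T ⟶ O), y₁ ≫ π = y₂ ≫ π → ∃ r : T ⟶ K, r ≫ p₁ = y₁ ∧ r ≫ p₂ = y₂
  ext : ∀ {T : Over S} (r r' : T ⟶ K), r ≫ p₁ = r' ≫ p₁ → r ≫ p₂ = r' ≫ p₂ → r = r'
  κ : sigmaOver (fun _ : G => O) ⟶ K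
  iso : IsIso κ
  κ₁ : ∀ g, sigmaι (fun _ : G => O) g ≫ κ ≫ p₁ = 𝟙 O
  κ₂ : ∀ g, sigmaι (fun _ : G => O) g ≫ κ ≫ p₂ = ρ g

/-- The graphs of a free action on an affine scheme. -/
theorem exists_graph {G A B : Type u} [Group G] [Finite G] [CommRing A] [CommRing B] [Algebra B A]
    [MulSemiringAction G A] [SMulCommClass G B A] [Algebra.IsInvariant B A G]
    (hfree : ∀ g : G, g ≠ 1 → Ideal.span (Set.range fun a : A => a - g • a) = ⊤)
    {O Z : Over S} (π : O ⟶ Z) (eO : O.left ≅ Spec (CommRingCat.of A)) (eZ : Z.left ≅ Spec (CommRingCat.of B))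
    (hπ : π.left = eO.hom ≫ Spec.map (CommRingCat.ofHom (algebraMap B A)) ≫ eZ.inv) (ρ : G → (O ⟶ O))
    (hρ : ∀ g, (ρ g).left = eO.hom ≫ Spec.map (CommRingCat.ofHom (MulSemiringAction.toRingHom G A g)) ≫ eO.inv) :
    Nonempty (Graph π ρ) := by
  let a : Spec (CommRingCat.of A) ⟶ Spec (CommRingCat.of B) := Spec.map (CommRingCat.ofHom (algebraMap B A))
  let inc₁ : Spec (CommRingCat.of (A ⊗[B] A)) ⟶ Spec (CommRingCat.of A) :=
    Spec.map (CommRingCat.ofHom Algebra.TensorProduct.includeLeftRingHom)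
  let inc₂ : Spec (CommRingCat.of (A ⊗[B] A)) ⟶ Spec (CommRingCat.of A) :=
    Spec.map (CommRingCat.ofHom (Algebra.TensorProduct.includeRight : A →ₐ[B] A ⊗[B] A).toRingHom)
  let I := pullbackSpecIso B A A
  have hI₁ : I.inv ≫ pullback.fst _ _ = inc₁ := pullbackSpecIso_inv_fst B A A
  have hI₂ : I.inv ≫ pullback.snd _ _ = inc₂ := pullbackSpecIso_inv_snd B A A
  have hπ' : ∀ {X : Scheme.{u}} (u v : X ⟶ O.left), u ≫ π.left = v ≫ π.left ↔
      (u ≫ eO.hom) ≫ a = (v ≫ eO.hom) ≫ a := fun u v => by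
    rw [hπ, ← cancel_mono eZ.hom]
    simp [a]
  have hinc : inc₁ ≫ a = inc₂ ≫ a := by rw [← hI₁, ← hI₂, Category.assoc, Category.assoc, pullback.condition]
  let K : Over S := Over.mk (inc₁ ≫ eO.inv ≫ O.hom)
  let p₁ : K ⟶ O := Over.homMk (inc₁ ≫ eO.inv) (Category.assoc _ _ _)
  have hw : (inc₁ ≫ eO.inv) ≫ π.left = (inc₂ ≫ eO.inv) ≫ π.left := (hπ' _ _).2 (by simpa using hinc)
  let p₂ : K ⟶ O := Over.homMk (inc₂ ≫ eO.inv) (by
    show (inc₂ ≫ eO.inv) ≫ O.hom = inc₁ ≫ eO.inv ≫ O.hom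
    rw [← Over.w π, ← Category.assoc, ← hw, Category.assoc, Category.assoc])
  let c : G → (Spec (CommRingCat.of A) ⟶ Spec (CommRingCat.of (A ⊗[B] A))) := fun g =>
    Spec.map (CommRingCat.ofHom (SGA1Q.galMap G A B g).toRingHom)
  have hc₁ : ∀ g, c g ≫ inc₁ = 𝟙 _ := fun g => by
    rw [← Spec.map_comp, ← Spec.map_id]
    congr 1
    ext x
    exact (SGA1Q.galMap_tmul G A B g x 1).trans (by rw [smul_one, mul_one]; rfl)
  have hc₂ : ∀ g, c g ≫ inc₂ = Spec.map (CommRingCat.ofHom (MulSemiringAction.toRingHom G A g)) := fun g => by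
    rw [← Spec.map_comp]
    congr 1
    ext x
    exact (SGA1Q.galMap_tmul G A B g 1 x).trans (one_mul _)
  let kg : ∀ g : G, O ⟶ K := fun g => Over.homMk (eO.hom ≫ c g) (by
    show (eO.hom ≫ c g) ≫ inc₁ ≫ eO.inv ≫ O.hom = O.hom
    rw [Category.assoc, reassoc_of% (hc₁ g), Iso.hom_inv_id_assoc])
  let κ : sigmaOver (fun _ : G => O) ⟶ K := Over.homMk (Sigma.desc fun g => (kg g).left)
    (Sigma.hom_ext _ _ fun g => by
      show Sigma.ι _ g ≫ Sigma.desc _ ≫ K.hom = Sigma.ι _ g ≫ Sigma.desc _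
      rw [Sigma.ι_desc_assoc, Sigma.ι_desc]
      exact Over.w (kg g))
  have hκ : ∀ g, sigmaι (fun _ : G => O) g ≫ κ = kg g := fun g => Over.OverMorphism.ext (Sigma.ι_desc _ g)
  have hiso : IsIso κ := by
    let R : G → CommRingCat.{u} := fun _ => CommRingCat.of A
    let f : CommRingCat.of (A ⊗[B] A) ⟶ CommRingCat.of (Π g, R g) :=
      CommRingCat.ofHom (RingHom.pi fun g : G => (SGA1Q.galMap G A B g).toRingHom)
    have : IsIso f := (ConcreteCategory.isIso_iff_bijective f).2 (bijective_galMaps B hfree)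
    have e : κ.left = (Sigma.mapIso fun _ : G => eO).hom ≫ sigmaSpec R ≫ Spec.map f := by
      refine Sigma.hom_ext _ _ fun g => ?_
      show Sigma.ι _ g ≫ Sigma.desc _ = _
      rw [Sigma.ι_desc, show (Sigma.mapIso fun _ : G => eO).hom = Limits.Sigma.map (fun _ => eO.hom) from rfl,
        Sigma.ι_map_assoc]
      show eO.hom ≫ c g = eO.hom ≫ Sigma.ι (fun g => Spec (R g)) g ≫ sigmaSpec R ≫ Spec.map f
      rw [ι_sigmaSpec_assoc, ← Spec.map_comp]
      rfl
    have : IsIso ((Over.forget S).map κ) := by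
      show IsIso κ.left
      rw [e]; infer_instance
    exact isIso_of_reflects_iso κ (Over.forget S)
  refine ⟨⟨K, p₁, p₂, Over.OverMorphism.ext hw, fun {T} y₁ y₂ h => ?_, fun {T} r r' h₁ h₂ => ?_, κ, hiso,
    fun g => ?_, fun g => ?_⟩⟩
  · let r : T.left ⟶ Spec (CommRingCat.of (A ⊗[B] A)) := pullback.lift (y₁.left ≫ eO.hom) (y₂.left ≫ eO.hom)
      ((hπ' _ _).1 (congrArg (fun m : T ⟶ Z => m.left) h)) ≫ I.hom
    have h₁ : r ≫ inc₁ = y₁.left ≫ eO.hom := by
      rw [← hI₁, Category.assoc, Iso.hom_inv_id_assoc]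
      exact pullback.lift_fst _ _ _
    have h₂ : r ≫ inc₂ = y₂.left ≫ eO.hom := by
      rw [← hI₂, Category.assoc, Iso.hom_inv_id_assoc]
      exact pullback.lift_snd _ _ _
    refine ⟨Over.homMk r ?_, Over.OverMorphism.ext ?_, Over.OverMorphism.ext ?_⟩
    · show r ≫ inc₁ ≫ eO.inv ≫ O.hom = T.hom
      rw [reassoc_of% h₁, Iso.hom_inv_id_assoc]
      exact Over.w y₁
    · show r ≫ inc₁ ≫ eO.inv = y₁.left
      rw [reassoc_of% h₁, Iso.hom_inv_id, Category.comp_id]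
    · show r ≫ inc₂ ≫ eO.inv = y₂.left
      rw [reassoc_of% h₂, Iso.hom_inv_id, Category.comp_id]
  · have e₁ : r.left ≫ inc₁ = r'.left ≫ inc₁ := by
      rw [← cancel_mono eO.inv, Category.assoc, Category.assoc]
      exact congrArg (fun m : T ⟶ O => m.left) h₁
    have e₂ : r.left ≫ inc₂ = r'.left ≫ inc₂ := by
      rw [← cancel_mono eO.inv, Category.assoc, Category.assoc]
      exact congrArg (fun m : T ⟶ O => m.left) h₂
    refine Over.OverMorphism.ext ((cancel_mono I.inv).1 (pullback.hom_ext ?_ ?_))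
    · simpa only [Category.assoc, hI₁] using e₁
    · simpa only [Category.assoc, hI₂] using e₂
  · rw [reassoc_of% (hκ g)]
    refine Over.OverMorphism.ext ?_
    show (eO.hom ≫ c g) ≫ inc₁ ≫ eO.inv = 𝟙 O.left
    rw [Category.assoc, reassoc_of% (hc₁ g), Iso.hom_inv_id]
  · rw [reassoc_of% (hκ g)]
    refine Over.OverMorphism.ext ?_
    show (eO.hom ≫ c g) ≫ inc₂ ≫ eO.inv = _
    rw [Category.assoc, reassoc_of% (hc₂ g), hρ]

end Groth.Agent.AlgStkX.FieldChart
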