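import Groth.Agent.AlgStkX.FieldChart.Sigma
import Groth.Agent.AlgStLib.Source
import Groth.Agent.AlgStLib.Charts
import Groth.Agent.AlgSpLib.LocalSourceInst
import Groth.Agent.AlgSpLib.SmoothLocalInst
import Groth.Agent.GerbFlat.Section
import Mathlib.AlgebraicGeometry.Morphisms.Descent
import Mathlib.AlgebraicGeometry.Morphisms.FlatDescent

/-!
# Smoothness of a chart on a disjoint union is read on the components
-/

set_option autoImplicit false
set_option backward.isDefEq.respectTransparency false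
set_option backward.isDefEq.respectTransparency.types false

universe u

open CategoryTheory CategoryTheory.Limits AlgebraicGeometry AlgSp
open Groth.Agent.FibBase Groth.Agent.AlgSpLib Groth.Agent.AlgStLib Groth.Agent.AlgSpDec

namespace Groth.Agent.AlgStkX.FieldChart

variable {S : Scheme.{u}} {𝒵 : AlgSt.Cat S}

theorem repByAlgSpWith_smooth_sigma (h𝒵 : FibCat.IsFibGrpd 𝒵.p) {κ : Type u} (T : κ → Over S)
    {z : FibCat.overCat (sigmaOver T) ⥤ᵇ 𝒵} (hz : AlgSt.RepByAlgSp1 z)
    (h : ∀ i, AlgSt.RepByAlgSpWith (LocP @Smooth) (BasedFunctor.comp (AlgSt.overMap (sigmaι T i)) z)) :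
    AlgSt.RepByAlgSpWith (LocP @Smooth) z := by
  intro U y
  obtain ⟨F, e, he⟩ := hz U y
  refine ⟨F, e, he, ?_⟩
  let K : AlgSt.ofSp F.obj ⥤ᵇ FibCat.overCat (sigmaOver T) := BasedFunctor.comp e (FibCat.fpSnd y z)
  let x := fun i => AlgSt.overMap (sigmaι T i)
  have hιs : ∀ i, Smooth (sigmaι T i).left := fun i => inferInstance
  have hx : ∀ i, AlgSt.RepByAlgSpWith (LocP @Smooth) (x i) := fun i =>
    repByAlgSpWith_overMap stableBC_locP (locP_of_repWith ((repWith_yon_map_iff (P := @Smooth) (sigmaι T i)).2 (hιs i)))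
  choose V c e' he' hi using fun i => exists_space_of_overSpace F.property
    (fp_isFibGrpd (Stk.isFibGrpd_ofPsh _) (isFibGrpd_overCat (T i)) (isFibGrpd_overCat (sigmaOver T)))
    (FibCat.fpFst K (x i)) (repByAlgSp1_fpFst K (repByAlgSp1_of_repByAlgSpWith (hx i)))
  have hsm : ∀ i, LocP @Smooth (c i) := fun i =>
    locP_of_repBySpWith F.property (c i) (repBySpWith_of_repByAlgSpWith (FibCat.fpFst K (x i)) (e' i)
      stableBC_locP (he' i) (repByAlgSpWith_fpFst K (hx i)) (hi i).some)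
  have hsurj : ∀ p : Points F.obj, ∃ i, p ∈ Set.range (Points.map (c i)) := fun p => by
    obtain ⟨T₀, g, t₀, hsub, rfl⟩ := exists_ofPt_eq p
    obtain ⟨d, ⟨id'⟩⟩ := GerbFlat.exists_overMap_iso (BasedFunctor.comp (overOfMap g) K)
    obtain ⟨i, v, hv⟩ := exists_sigmaι T (d.left t₀)
    have hrange : Set.range d.left ⊆ Set.range (sigmaι T i).left := by
      rintro _ ⟨q, rfl⟩
      exact ⟨v, by rw [Subsingleton.elim q t₀]; exact hv⟩
    let d' : T₀ ⟶ T i := Over.homMk (IsOpenImmersion.lift (sigmaι T i).left d.left hrange) (by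
      rw [← Over.w (sigmaι T i), IsOpenImmersion.lift_fac_assoc, Over.w d])
    have hd : d' ≫ sigmaι T i = d := Over.OverMorphism.ext (IsOpenImmersion.lift_fac _ _ _)
    let E₀ : FibCat.overCat T₀ ⥤ᵇ FibCat.fp K (x i) := FibCat.fpLift (overOfMap g) (AlgSt.overMap d')
      (id' ≪≫ eqToIso (congrArg AlgSt.overMap hd.symm) ≪≫ (overMapCompIso d' (sigmaι T i)).symm)
    obtain ⟨k, -, -, ⟨ik⟩⟩ := isEquivOver_inv (he' i)
    let ξ' : AlgSt.ofSch T₀ ⥤ᵇ AlgSt.ofSp (V i).obj :=
      BasedFunctor.comp (AlgSt.toOverCat T₀) (BasedFunctor.comp E₀ k)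
    have hξ : spHom ξ' ≫ c i = g := by
      have h1 : spHom ξ' ≫ c i = spHom (BasedFunctor.comp ξ' (AlgSt.ofSpMap (c i))) := by
        rw [spHom_comp, spHom_ofSpMap]
      rw [h1]
      refine (spHom_congr ?_).trans (mapOfOver_overOfMap g)
      exact whiskerLeftIso ξ' (hi i).some.symm ≪≫
        whiskerLeftIso (BasedFunctor.comp (AlgSt.toOverCat T₀) E₀) (whiskerRightIso ik (FibCat.fpFst K (x i)))
    exact ⟨i, Points.ofPt (spHom ξ') t₀, by rw [Points.map_ofPt, hξ]⟩
  refine (isLocalOnSource_smooth @Smooth (fun i => (V i).obj) c F.property (fun i => (V i).property)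
    ⟨hsm, hsurj⟩ _ (IsAlgSpace.yon_obj U)).2 fun i => ?_
  let k := fpMap (F := FibCat.fpSnd y z) (G := x i) (F' := K) (G' := x i) (a := e) (b := BasedFunctor.id _)
    (c := BasedFunctor.id _) (Iso.refl _) (Iso.refl _)
  have hk : FibCat.IsEquivOver k := fpMap_isEquivOver _ _ he isEquivOver_id
  let E := BasedFunctor.comp (e' i) (BasedFunctor.comp k (pasteHor y (x i) z))
  have hP := ((show RepOver (LocP @Smooth) (FibCat.fpFst y (BasedFunctor.comp (x i) z)) from
    h i U y).property_of_stableBC stableBC_locP E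
    (isEquivOver_comp (he' i) (isEquivOver_comp hk (pasteHor_isEquivOver y (x i) z)))).2
  let j : BasedFunctor.comp E (FibCat.fpFst y (BasedFunctor.comp (x i) z)) ≅
      BasedFunctor.comp (AlgSt.ofSpMap (c i)) (BasedFunctor.comp e (FibCat.fpFst y z)) :=
    whiskerRightIso (hi i).some (BasedFunctor.comp e (FibCat.fpFst y z))
  rw [spMapOfOver_congr j, spMapOfOver_comp, spHom_ofSpMap] at hP
  exact hP

end Groth.Agent.AlgStkX.FieldChart
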