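import Groth.Agent.AlgStkX.FieldChart.Chart
import Groth.Agent.AlgStkX.FieldChart.Datum
import Groth.Agent.AlgStkX.FieldChart.SigmaSmooth
import Groth.Agent.AlgStkX.HensLift
import Groth.Agent.AlgStLib.SmoothBootstrap
import Groth.Agent.AlgStLib.FieldImage
import Groth.Agent.AlgSpQ4.QuotPts

/-!
# Charts receiving points over henselian local rings and their quotients
-/

set_option autoImplicit false
set_option backward.isDefEq.respectTransparency false
set_option backward.isDefEq.respectTransparency.types false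

universe u

open CategoryTheory CategoryTheory.Functor CategoryTheory.Limits AlgebraicGeometry AlgSp
open Groth.Agent.FibBase Groth.Agent.AlgSpLib Groth.Agent.AlgStLib Groth.Agent.AlgSpDec Groth.Agent.AlgSpQ4

namespace Groth.Agent.AlgStkX.FieldChart

variable {S : Scheme.{u}} {𝒵 : AlgSt.Cat S}

/-- A smooth chart through the closed point of a henselian point lifts the point. -/
theorem exists_lift_henselian {Z : Over S} {p : FibCat.overCat Z ⥤ᵇ 𝒵}
    (hp : AlgSt.RepByAlgSpWith (LocP @Smooth) p) {R : Type u} [CommRing R] [HenselianLocalRing R]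
    (str : Spec (CommRingCat.of R) ⟶ S) (z : FibCat.overCat (Over.mk str) ⥤ᵇ 𝒵) (w : closedOver R str ⟶ Z)
    (hw : Nonempty (BasedFunctor.comp (AlgSt.overMap w) p ≅ BasedFunctor.comp (AlgSt.overMap (closedIncl R str)) z)) :
    ∃ g : Over.mk str ⟶ Z, Nonempty (BasedFunctor.comp (AlgSt.overMap g) p ≅ z) := by
  obtain ⟨i⟩ := hw
  obtain ⟨z', -, ⟨i'⟩⟩ := HensLift.exists_lift (Z := (⟨(yon S).obj Z, IsAlgSpace.yon_obj Z⟩ : AlgSp.Space S))
    (BasedFunctor.comp (AlgSt.toOverCat Z) p) (repByAlgSpWith_precomp (isEquivOver_toOverCat Z) hp) str z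
    ((yon S).map w) ⟨whiskerRightIso (FieldImg.overOfMapIso w) p ≪≫ i⟩
  obtain ⟨g, rfl⟩ := (yon S).map_surjective z'
  exact ⟨g, ⟨(whiskerRightIso (FieldImg.overOfMapIso g) p).symm ≪≫ i'⟩⟩

/-- The possible descent data of the points over a fixed field along a fixed atlas. -/
abbrev Data {k : Type u} [Field k] (sk : Spec (CommRingCat.of k) ⟶ S) {U₀ : Over S}
    (a : FibCat.overCat U₀ ⥤ᵇ 𝒵) : Type u :=
  Σ (L : {L : IntermediateField k (AlgebraicClosure k) // FiniteDimensional k L ∧ IsGalois k L})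
    (D : {D : U₀.left.Opens // IsAffineOpen D})
    (_ : extPt sk L.1 ⟶ Over.mk (D.1.ι ≫ U₀.hom)),
    (L.1 ≃ₐ[k] L.1) → Elt (chartRes a D.1) (extPt sk L.1)

/-- One affine smooth chart for each isomorphism class of points over a field. -/
theorem exists_sigma_chart {k : Type u} [Field k] (sk : Spec (CommRingCat.of k) ⟶ S)
    (hst : Stk.IsStack (QuotSh.J Scheme.etalePrecoverage S) 𝒵)
    (hΔ : AlgSt.RepByAlgSp1 (FibCat.diag (FibCat.toSelf 𝒵))) (hat : AlgSt.HasAtlas (LocP @Smooth) 𝒵) :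
    ∃ (Z : Over S) (p : FibCat.overCat Z ⥤ᵇ 𝒵), IsSeparated Z.hom ∧ AlgSt.RepByAlgSpWith (LocP @Smooth) p ∧
      ∀ x : FibCat.overCat (Over.mk sk) ⥤ᵇ 𝒵,
        ∃ w : Over.mk sk ⟶ Z, Nonempty (BasedFunctor.comp (AlgSt.overMap w) p ≅ x) := by
  have hat' := hat
  obtain ⟨U₀, a, ha, has⟩ := hat'
  let κ := {d : Data sk a // ∃ x, HasDatum sk (chartRes a d.2.1.1) hst.1 x d.2.2.1 d.2.2.2}
  choose xr hxr using fun d : κ => d.2
  choose T hT zs ws hzs hws using fun d : κ => exists_chart sk hst hΔ hat (xr d)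
  obtain ⟨p, hp⟩ := exists_sigma_functor hst T zs
  refine ⟨sigmaOver T, p, isSeparated_sigmaOver T hT, repByAlgSpWith_smooth_sigma hst.1 T
    (AlgStLib.repByAlgSp1_of_diag hst.1 hΔ _ p) (fun i => repByAlgSpWith_of_iso (hp i).some.symm (hzs i)), fun x => ?_⟩
  obtain ⟨L, hL₁, hL₂, D, hD, u, φ₀, hφ₀⟩ := exists_galois_lift sk ha has x
  have : IsAffine (Over.mk (D.ι ≫ U₀.hom)).left := hD
  obtain ⟨e, he⟩ := exists_hasDatum sk (chartRes a D) hst.1 x u φ₀ hφ₀
  let d : κ := ⟨⟨⟨L, hL₁, hL₂⟩, ⟨D, hD⟩, u, e⟩, x, he⟩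
  obtain ⟨Φ⟩ := exists_isoSpace hst.1 (repByAlgSpWith_chartRes ha D)
  obtain ⟨i⟩ := iso_of_hasDatum hst Φ he (hxr d)
  refine ⟨ws d ≫ sigmaι T d, ⟨?_⟩⟩
  exact (whiskerRightIso (overMapCompIso (ws d) (sigmaι T d)) p).symm ≪≫
    whiskerLeftIso (AlgSt.overMap (ws d)) (hp d).some ≪≫ (hws d).some ≪≫ i

/-- One separated smooth chart receives all points over quotients of a henselian local ring. -/
theorem exists_chart_lift_quot (hst : Stk.IsStack (QuotSh.J Scheme.etalePrecoverage S) 𝒵)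
    (hΔ : AlgSt.RepByAlgSp1 (FibCat.diag (FibCat.toSelf 𝒵))) (hat : AlgSt.HasAtlas (LocP @Smooth) 𝒵)
    {R : Type u} [CommRing R] [HenselianLocalRing R] (str : Spec (CommRingCat.of R) ⟶ S) :
    ∃ (Z : Over S) (p : FibCat.overCat Z ⥤ᵇ 𝒵), IsSeparated Z.hom ∧ AlgSt.RepByAlgSpWith (LocP @Smooth) p ∧
      ∀ (a : Ideal R) (x : FibCat.overCat (quotOver a str) ⥤ᵇ 𝒵),
        ∃ g : quotOver a str ⟶ Z, Nonempty (BasedFunctor.comp (AlgSt.overMap g) p ≅ x) := by
  obtain ⟨Z, p, hsep, hsm, hpts⟩ := exists_sigma_chart (closedOver R str).hom hst hΔ hat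
  refine ⟨Z, p, hsep, hsm, fun a x => ?_⟩
  by_cases ha : a = ⊤
  · have : Subsingleton (R ⧸ a) := Ideal.Quotient.subsingleton_iff.2 ha
    have : IsEmpty (quotOver a str).left := inferInstanceAs (IsEmpty (PrimeSpectrum (R ⧸ a)))
    let g : quotOver a str ⟶ Z := Over.homMk ((isInitialOfIsEmpty (X := (quotOver a str).left)).to Z.left)
      ((isInitialOfIsEmpty (X := (quotOver a str).left)).hom_ext _ _)
    exact ⟨g, nonempty_iso_of_isEmpty hst _ x⟩
  · have := henselianLocalRing_quotient a ha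
    obtain ⟨e, he, hec⟩ := exists_quot_residue a ha str
    let x₀ : FibCat.overCat (closedOver R str) ⥤ᵇ 𝒵 :=
      BasedFunctor.comp (AlgSt.overMap (inv e ≫ closedIncl (R ⧸ a) (quotOver a str).hom)) x
    obtain ⟨w, ⟨i⟩⟩ := hpts x₀
    refine exists_lift_henselian hsm (quotOver a str).hom x (e ≫ w) ⟨?_⟩
    exact (whiskerRightIso (overMapCompIso e w) p).symm ≪≫ whiskerLeftIso (AlgSt.overMap e) i ≪≫
      whiskerRightIso (overMapCompIso e (inv e ≫ closedIncl (R ⧸ a) (quotOver a str).hom) ≪≫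
        eqToIso (congrArg AlgSt.overMap (IsIso.hom_inv_id_assoc e _))) x

end Groth.Agent.AlgStkX.FieldChart
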