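import Groth.Agent.AlgStkX.FieldChart.Descend
import Groth.Agent.AlgStkX.FieldChart.Graph
import Groth.Agent.AlgStkX.FieldChart.Space

/-!
# Descent data of a point and comparison with glued charts
-/

set_option autoImplicit false
set_option backward.isDefEq.respectTransparency false
set_option backward.isDefEq.respectTransparency.types false

universe u

open CategoryTheory CategoryTheory.Functor AlgebraicGeometry AlgSp
open Groth.Agent.FibBase Groth.Agent.AlgSpDec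

namespace Groth.Agent.AlgStkX.FieldChart

variable {S : Scheme.{u}} {𝒵 : AlgSt.Cat S} {U : Over S} {p : FibCat.overCat U ⥤ᵇ 𝒵}

section Lift

variable {W : Over S} (x : FibCat.overCat W ⥤ᵇ 𝒵)

/-- The transition map of a point. -/
abbrev Xm {T' T : Over S} (f : T' ⟶ T) {c : T ⟶ W} {c' : T' ⟶ W} (h : f ≫ c = c') :
    x.obj (sob c') ⟶ x.obj (sob c) :=
  x.map (Over.homMk f h : Over.mk c' ⟶ Over.mk c)

theorem Xm_lift {T' T : Over S} (f : T' ⟶ T) {c : T ⟶ W} {c' : T' ⟶ W} (h : f ≫ c = c') :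
    𝒵.p.IsHomLift f (Xm x f h) :=
  haveI : (FibCat.overCat W).p.IsHomLift f (Over.homMk f h : Over.mk c' ⟶ Over.mk c) :=
    IsHomLift.map (FibCat.overCat W).p (Over.homMk f h : Over.mk c' ⟶ Over.mk c)
  x.preserves_isHomLift f _

variable {x}

theorem Xm_comp {T'' T' T : Over S} (f' : T'' ⟶ T') (f : T' ⟶ T) {c : T ⟶ W} {c' : T' ⟶ W} {c'' : T'' ⟶ W}
    (h' : f' ≫ c' = c'') (h : f ≫ c = c') :
    Xm x f' h' ≫ Xm x f h = Xm x (f' ≫ f) (by rw [Category.assoc, h, h']) := by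
  rw [← x.toFunctor.map_comp]; rfl

/-- `ψ` is the restriction of `φ` along `b`. -/
def IsRes {T' T : Over S} (b : T' ⟶ T) {g : T ⟶ U} {c : T ⟶ W} (φ : Po p g ⟶ x.obj (sob c)) {g' : T' ⟶ U}
    {c' : T' ⟶ W} (ψ : Po p g' ⟶ x.obj (sob c')) : Prop :=
  ∃ (h₁ : b ≫ g = g') (h₂ : b ≫ c = c'), 𝒵.p.IsHomLift (𝟙 T') ψ ∧ Pm p b h₁ ≫ φ = ψ ≫ Xm x b h₂

variable (hZ : FibCat.IsFibGrpd 𝒵.p)
include hZ

theorem exists_isRes {T' T : Over S} (b : T' ⟶ T) {g : T ⟶ U} {c : T ⟶ W} (φ : Po p g ⟶ x.obj (sob c))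
    (hφ : 𝒵.p.IsHomLift (𝟙 T) φ) {g' : T' ⟶ U} {c' : T' ⟶ W} (h₁ : b ≫ g = g') (h₂ : b ≫ c = c') :
    ∃ ψ : Po p g' ⟶ x.obj (sob c'), IsRes b φ ψ := by
  have := Pm_lift p b h₁
  have := Xm_lift x b h₂
  have := isSC (hp := hZ) b (Xm x b h₂)
  have : 𝒵.p.IsHomLift b (Pm p b h₁ ≫ φ) := by
    have h : 𝒵.p.IsHomLift (b ≫ 𝟙 T) (Pm p b h₁ ≫ φ) := inferInstance
    rwa [Category.comp_id] at h
  exact ⟨IsStronglyCartesian.map 𝒵.p b (Xm x b h₂) (g := 𝟙 T') (Category.id_comp b).symm (Pm p b h₁ ≫ φ), h₁, h₂,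
    inferInstance, (IsStronglyCartesian.fac 𝒵.p b (Xm x b h₂) (g := 𝟙 T') (Category.id_comp b).symm _).symm⟩

theorem IsRes.unique {T' T : Over S} {b : T' ⟶ T} {g : T ⟶ U} {c : T ⟶ W} {φ : Po p g ⟶ x.obj (sob c)}
    {g' : T' ⟶ U} {c' : T' ⟶ W} {ψ ψ' : Po p g' ⟶ x.obj (sob c')} (h : IsRes b φ ψ) (h' : IsRes b φ ψ') :
    ψ = ψ' := by
  obtain ⟨a₁, a₂, l, e⟩ := h
  obtain ⟨_, _, l', e'⟩ := h'
  have := Xm_lift x b a₂
  have := isSC (hp := hZ) b (Xm x b a₂)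
  exact IsStronglyCartesian.ext 𝒵.p b (Xm x b a₂) (𝟙 T') (e.symm.trans e')

omit hZ in
theorem IsRes.comp {T'' T' T : Over S} {b' : T'' ⟶ T'} {b : T' ⟶ T} {g : T ⟶ U} {c : T ⟶ W}
    {φ : Po p g ⟶ x.obj (sob c)} {g' : T' ⟶ U} {c' : T' ⟶ W} {ψ : Po p g' ⟶ x.obj (sob c')} {g'' : T'' ⟶ U}
    {c'' : T'' ⟶ W} {χ : Po p g'' ⟶ x.obj (sob c'')} (h' : IsRes b' ψ χ) (h : IsRes b φ ψ) :
    IsRes (b' ≫ b) φ χ := by
  obtain ⟨a₁, a₂, -, ea⟩ := h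
  obtain ⟨b₁, b₂, l, eb⟩ := h'
  refine ⟨by rw [Category.assoc, a₁, b₁], by rw [Category.assoc, a₂, b₂], l, ?_⟩
  rw [← Pm_comp p b' b b₁ a₁, ← Xm_comp b' b b₂ a₂, Category.assoc, ea, reassoc_of% eb]

theorem exists_restrictions {W' : Over S} (q : W' ⟶ W) (u : W' ⟶ U) (φ : Po p u ⟶ x.obj (sob q))
    (hφ : 𝒵.p.IsHomLift (𝟙 W') φ) :
    ∃ Φb : ∀ {T : Over S} (b : T ⟶ W'), Po p (b ≫ u) ⟶ x.obj (sob (b ≫ q)),
      (∀ {T : Over S} (b : T ⟶ W'), 𝒵.p.IsHomLift (𝟙 T) (Φb b)) ∧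
        ∀ {T' T : Over S} (f : T' ⟶ T) (b : T ⟶ W') (b' : T' ⟶ W') (_ : f ≫ b = b'), IsRes f (Φb b) (Φb b') := by
  choose Φb hΦb using fun (T : Over S) (b : T ⟶ W') => exists_isRes hZ b φ hφ (rfl : b ≫ u = _) (rfl : b ≫ q = _)
  refine ⟨fun {T} b => Φb T b, fun {T} b => (hΦb T b).2.2.1, fun {T' T} f b b' e => ?_⟩
  subst e
  show IsRes f (Φb T b) (Φb T' (f ≫ b))
  obtain ⟨ψ, hψ⟩ := exists_isRes hZ f (Φb T b) (hΦb T b).2.2.1 (Category.assoc f b u).symm (Category.assoc f b q).symm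
  rwa [(hΦb T' (f ≫ b)).unique hZ (hψ.comp (hΦb T b))]

/-- The descent datum of a point. -/
theorem exists_pointDatum {W' : Over S} (q : W' ⟶ W) (u : W' ⟶ U)
    (Φb : ∀ {T : Over S} (b : T ⟶ W'), Po p (b ≫ u) ⟶ x.obj (sob (b ≫ q)))
    (hΦb : ∀ {T : Over S} (b : T ⟶ W'), 𝒵.p.IsHomLift (𝟙 T) (Φb b))
    (hΦn : ∀ {T' T : Over S} (f : T' ⟶ T) (b : T ⟶ W') (b' : T' ⟶ W') (_ : f ≫ b = b'), IsRes f (Φb b) (Φb b')) :
    ∃ θx : ∀ {T : Over S} (b b' : T ⟶ W'), b ≫ q = b' ≫ q → Elt p T,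
      (∀ {T : Over S} (b b' : T ⟶ W') (h : b ≫ q = b' ≫ q), (θx b b' h).g₁ = b ≫ u) ∧
      (∀ {T : Over S} (b b' : T ⟶ W') (h : b ≫ q = b' ≫ q), (θx b b' h).g₂ = b' ≫ u) ∧
      (∀ {T' T : Over S} (f : T' ⟶ T) (b b' : T ⟶ W') (h : b ≫ q = b' ≫ q) (c c' : T' ⟶ W') (hc : f ≫ b = c)
        (hc' : f ≫ b' = c'),
        pull hZ f (θx b b' h) = θx c c' (by rw [← hc, ← hc', Category.assoc, h, Category.assoc])) ∧
      (∀ {T : Over S} (b b' b'' : T ⟶ W') (h : b ≫ q = b' ≫ q) (h' : b' ≫ q = b'' ≫ q),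
        IsMul (θx b b' h) (θx b' b'' h') (θx b b'' (h.trans h'))) ∧
      ∀ {T : Over S} (b b' : T ⟶ W') (h : b ≫ q = b' ≫ q) (a₁ : (θx b b' h).g₁ = b ≫ u)
        (a₂ : (θx b b' h).g₂ = b' ≫ u),
        (θx b b' h).arr a₁ a₂ ≫ Φb b' = Φb b ≫ eqToHom (congrArg (fun c => x.obj (sob c)) h) := by
  have hiso : ∀ {T : Over S} (b : T ⟶ W'), IsIso (Φb b) := by
    intro T b
    have := hΦb b
    have := isSC (hp := hZ) (𝟙 T) (Φb b)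
    exact IsStronglyCartesian.isIso_of_base_isIso 𝒵.p (𝟙 T) (Φb b)
  let θx : ∀ {T : Over S} (b b' : T ⟶ W'), b ≫ q = b' ≫ q → Elt p T := fun {T} b b' h =>
    ⟨b ≫ u, b' ≫ u, Φb b ≫ eqToHom (congrArg (fun c => x.obj (sob c)) h) ≫ @inv _ _ _ _ (Φb b') (hiso b'), by
      have := hΦb b
      have := hΦb b'
      have := hiso b'
      have : 𝒵.p.IsHomLift (𝟙 T) (eqToHom (congrArg (fun c => x.obj (sob c)) h)) :=
        isHomLift_id_of_map_eq (x.w_obj (sob (b ≫ q))) (x.w_obj (sob (b' ≫ q))) (eqToHom_map _ _)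
      infer_instance⟩
  refine ⟨θx, fun b b' h => rfl, fun b b' h => rfl, fun {T' T} f b b' h c c' hc hc' => pull_eq hZ ?_,
    fun {T} b b' b'' h h' => ?_, fun {T} b b' h a₁ a₂ => ?_⟩
  · subst hc hc'
    obtain ⟨a₁, a₂, -, ea⟩ := hΦn f b _ rfl
    obtain ⟨b₁, b₂, -, eb⟩ := hΦn f b' _ rfl
    have := hiso (f ≫ b')
    have := hiso b'
    refine ⟨a₁, b₁, ?_⟩
    show Pm p f a₁ ≫ Φb b ≫ eqToHom _ ≫ inv (Φb b') =
      (Φb (f ≫ b) ≫ eqToHom _ ≫ inv (Φb (f ≫ b'))) ≫ Pm p f b₁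
    have e' : inv (Φb (f ≫ b')) ≫ Pm p f b₁ = Xm x f b₂ ≫ inv (Φb b') := by
      rw [IsIso.inv_comp_eq, ← Category.assoc, IsIso.eq_comp_inv, eb]
    have key : ∀ {c₁ c₂ : T ⟶ W} (e : c₁ = c₂) {d₁ d₂ : T' ⟶ W} (e' : d₁ = d₂) (h₁ : f ≫ c₁ = d₁)
        (h₂ : f ≫ c₂ = d₂), Xm x f h₁ ≫ eqToHom (congrArg (fun c => x.obj (sob c)) e) =
          eqToHom (congrArg (fun c => x.obj (sob c)) e') ≫ Xm x f h₂ := by
      rintro c₁ _ rfl d₁ _ rfl h₁ h₂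
      simp
    rw [reassoc_of% ea, reassoc_of% (key h (by rw [Category.assoc, h, Category.assoc]) a₂ b₂)]
    refine Eq.trans ?_ (Category.assoc _ _ _).symm
    exact congrArg (_ ≫ ·) ((congrArg (_ ≫ ·) e'.symm).trans (Category.assoc _ _ _).symm)
  · refine isMul_mk_iff.2 ?_
    have := hiso b'
    rw [Category.assoc, Category.assoc, IsIso.inv_hom_id_assoc, eqToHom_trans_assoc]
  · show Elt.arr ⟨_, _, _, _⟩ a₁ a₂ ≫ _ = _
    have := hiso b'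
    rw [Elt.arr_mk, Category.assoc, Category.assoc, IsIso.inv_hom_id, Category.comp_id]

end Lift

/-- A glued chart restricts to a point along compatible descent data. -/
theorem exists_point_iso (hst : Stk.IsStack (QuotSh.J Scheme.etalePrecoverage S) 𝒵)
    {O Z : Over S} (π : O ⟶ Z) (g : O ⟶ U)
    (θ : ∀ {T : Over S} (y₁ y₂ : T ⟶ O), y₁ ≫ π = y₂ ≫ π → Elt p T)
    (θ₁ : ∀ {T : Over S} (y₁ y₂ : T ⟶ O) (h : y₁ ≫ π = y₂ ≫ π), (θ y₁ y₂ h).g₁ = y₁ ≫ g)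
    (θ₂ : ∀ {T : Over S} (y₁ y₂ : T ⟶ O) (h : y₁ ≫ π = y₂ ≫ π), (θ y₁ y₂ h).g₂ = y₂ ≫ g)
    {z : FibCat.overCat Z ⥤ᵇ 𝒵} (ι : BasedFunctor.comp (AlgSt.overMap π) z ≅ BasedFunctor.comp (AlgSt.overMap g) p)
    (hι : ∀ {T : Over S} (y₁ y₂ : T ⟶ O) (h : y₁ ≫ π = y₂ ≫ π),
        ι.hom.toNatTrans.app (sob y₁) ≫ (θ y₁ y₂ h).arr (θ₁ y₁ y₂ h) (θ₂ y₁ y₂ h) =
          eqToHom (congrArg (fun f => z.obj (sob f)) h) ≫ ι.hom.toNatTrans.app (sob y₂))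
    {W W' : Over S} (q : W' ⟶ W) [Etale q.left] [Surjective q.left] (w : W ⟶ Z) (l : W' ⟶ O)
    (hl : l ≫ π = q ≫ w) (x : FibCat.overCat W ⥤ᵇ 𝒵) (u : W' ⟶ U) (hu : l ≫ g = u)
    (Φb : ∀ {T : Over S} (b : T ⟶ W'), Po p (b ≫ u) ⟶ x.obj (sob (b ≫ q)))
    (hΦb : ∀ {T : Over S} (b : T ⟶ W'), 𝒵.p.IsHomLift (𝟙 T) (Φb b))
    (hΦn : ∀ {T' T : Over S} (f : T' ⟶ T) (b : T ⟶ W') (b' : T' ⟶ W') (_ : f ≫ b = b'), IsRes f (Φb b) (Φb b'))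
    (θx : ∀ {T : Over S} (b b' : T ⟶ W'), b ≫ q = b' ≫ q → Elt p T)
    (hθ : ∀ {T : Over S} (b b' : T ⟶ W') (h : b ≫ q = b' ≫ q),
      θ (b ≫ l) (b' ≫ l) (by rw [Category.assoc, Category.assoc, hl, reassoc_of% h]) = θx b b' h)
    (hθx : ∀ {T : Over S} (b b' : T ⟶ W') (h : b ≫ q = b' ≫ q) (a₁ : (θx b b' h).g₁ = b ≫ u)
        (a₂ : (θx b b' h).g₂ = b' ≫ u),
        (θx b b' h).arr a₁ a₂ ≫ Φb b' = Φb b ≫ eqToHom (congrArg (fun c => x.obj (sob c)) h)) :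
    Nonempty (BasedFunctor.comp (AlgSt.overMap w) z ≅ x) := by
  subst hu
  let R := Sieve.generate (Presieve.singleton q)
  have hfac : ∀ a : (Stk.sieveCat R).obj, ∃ b : a.obj.left ⟶ W', b ≫ q = a.obj.hom := fun a => by
    obtain ⟨V, h, g', hg', e⟩ := a.property
    cases hg'
    exact ⟨h, e⟩
  choose b hb using hfac
  have hz : ∀ {T : Over S} (c : T ⟶ W) (d : T ⟶ W') (_ : d ≫ q = c), c ≫ w = (d ≫ l) ≫ π := fun c d e => by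
    rw [Category.assoc, hl, reassoc_of% e]
  -- the comparison at a point
  let α : ∀ {T : Over S} (c : T ⟶ W) (d : T ⟶ W') (e : d ≫ q = c), z.obj (sob (c ≫ w)) ⟶ x.obj (sob c) :=
    fun {T} c d e => eqToHom (congrArg (fun f => z.obj (sob f)) (hz c d e)) ≫ ι.hom.toNatTrans.app (sob (d ≫ l)) ≫
      eqToHom (congrArg (fun f => p.obj (Over.mk f)) (Category.assoc d l g)) ≫ Φb d ≫
        eqToHom (congrArg (fun f => x.obj (sob f)) e)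
  have hα : ∀ {T : Over S} (c : T ⟶ W) (d : T ⟶ W') (e : d ≫ q = c), 𝒵.p.IsHomLift (𝟙 T) (α c d e) := by
    intro T c d e
    have : 𝒵.p.IsHomLift (𝟙 T) (ι.hom.toNatTrans.app (sob (d ≫ l))) := ι.hom.isHomLift' (sob (d ≫ l))
    have := hΦb d
    have := isHomLift_id_of_map_eq (p := 𝒵.p) (z.w_obj (sob (c ≫ w))) (z.w_obj (sob ((d ≫ l) ≫ π)))
      (φ := eqToHom (congrArg (fun f => z.obj (sob f)) (hz c d e))) (eqToHom_map _ _)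
    have := isHomLift_id_of_map_eq (p := 𝒵.p) (p.w_obj (Over.mk ((d ≫ l) ≫ g))) (p.w_obj (Over.mk (d ≫ l ≫ g)))
      (φ := eqToHom (congrArg (fun f => p.obj (Over.mk f)) (Category.assoc d l g))) (eqToHom_map _ _)
    have := isHomLift_id_of_map_eq (p := 𝒵.p) (x.w_obj (sob (d ≫ q))) (x.w_obj (sob c))
      (φ := eqToHom (congrArg (fun f => x.obj (sob f)) e)) (eqToHom_map _ _)
    exact inferInstanceAs (𝒵.p.IsHomLift (𝟙 T) (_ ≫ _ ≫ _ ≫ _ ≫ _))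
  have hind : ∀ {T : Over S} (c : T ⟶ W) (d d' : T ⟶ W') (e : d ≫ q = c) (e' : d' ≫ q = c),
      α c d e = α c d' e' := by
    intro T c d d' e e'
    subst e
    have hd : d ≫ q = d' ≫ q := e'.symm
    have h1 := hι (d ≫ l) (d' ≫ l) (by rw [Category.assoc, Category.assoc, hl, reassoc_of% hd])
    have key : ∀ (e₁ e₂ : Elt p T) (_ : e₁ = e₂) (a₁ : e₁.g₁ = (d ≫ l) ≫ g) (a₂ : e₁.g₂ = (d' ≫ l) ≫ g)
        (b₁ : e₂.g₁ = d ≫ l ≫ g) (b₂ : e₂.g₂ = d' ≫ l ≫ g),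
        eqToHom (congrArg (fun f => p.obj (Over.mk f)) (Category.assoc d l g)) ≫ e₂.arr b₁ b₂ =
          e₁.arr a₁ a₂ ≫ eqToHom (congrArg (fun f => p.obj (Over.mk f)) (Category.assoc d' l g)) := by
      rintro e₁ _ rfl a₁ a₂ b₁ b₂
      have h : ∀ (s t s' t' : T ⟶ U) (hs : s = s') (ht : t = t') (x₁ : e₁.g₁ = s) (x₂ : e₁.g₂ = t)
          (y₁ : e₁.g₁ = s') (y₂ : e₁.g₂ = t'), eqToHom (congrArg (fun f => p.obj (Over.mk f)) hs) ≫ e₁.arr y₁ y₂ =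
            e₁.arr x₁ x₂ ≫ eqToHom (congrArg (fun f => p.obj (Over.mk f)) ht) := by
        rintro s t _ _ rfl rfl _ _ _ _
        simp
      exact h ((d ≫ l) ≫ g) ((d' ≫ l) ≫ g) (d ≫ l ≫ g) (d' ≫ l ≫ g) (Category.assoc _ _ _) (Category.assoc _ _ _)
        a₁ a₂ b₁ b₂
    have hk := key _ _ (hθ d d' hd) (θ₁ _ _ _) (θ₂ _ _ _)
      (by rw [← hθ d d' hd, θ₁, Category.assoc]) (by rw [← hθ d d' hd, θ₂, Category.assoc])
    have h2 := hθx d d' hd (by rw [← hθ d d' hd, θ₁, Category.assoc]) (by rw [← hθ d d' hd, θ₂, Category.assoc])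
    have h3 : ι.hom.toNatTrans.app (sob (d' ≫ l)) = eqToHom (congrArg (fun f => z.obj (sob f))
        (show (d' ≫ l) ≫ π = (d ≫ l) ≫ π by rw [Category.assoc, Category.assoc, hl, reassoc_of% hd])) ≫
        ι.hom.toNatTrans.app (sob (d ≫ l)) ≫ (θ (d ≫ l) (d' ≫ l) (by rw [Category.assoc, Category.assoc, hl, reassoc_of% hd])).arr (θ₁ _ _ _) (θ₂ _ _ _) := by
      rw [h1, eqToHom_trans_assoc, eqToHom_refl, Category.id_comp]
    show _ ≫ _ ≫ _ ≫ Φb d ≫ _ = eqToHom _ ≫ ι.hom.toNatTrans.app (sob (d' ≫ l)) ≫ _ ≫ Φb d' ≫ eqToHom _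
    rw [h3]
    simp only [Category.assoc]
    rw [eqToHom_trans_assoc, ← reassoc_of% hk, reassoc_of% h2]
    simp
  let R' := R
  haveI : (Stk.resSieve R 𝒵).IsEquivalence := hst.2 R (AlgSpDec.mem_J_etale q)
  let F₁ := BasedFunctor.comp (AlgSt.overMap w) z
  have hnat : ∀ {a a' : (Stk.sieveCat R).obj} (m : a ⟶ a'),
      z.map ((Over.map w).map m.hom) ≫ α a'.obj.hom (b a') (hb a') =
        α a.obj.hom (b a) (hb a) ≫ x.map m.hom := by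
    intro a a' m
    have hd : (m.hom.left ≫ b a') ≫ q = a.obj.hom := by rw [Category.assoc, hb, Over.w m.hom]
    rw [hind a.obj.hom (b a) (m.hom.left ≫ b a') (hb a) hd]
    obtain ⟨u₁, u₂, -, eu⟩ := hΦn m.hom.left (b a') _ rfl
    have e1 := ι.hom.toNatTrans.naturality
      (Over.homMk m.hom.left (Category.assoc _ _ _).symm : sob ((m.hom.left ≫ b a') ≫ l) ⟶ sob (b a' ≫ l))
    have kz : ∀ {T' T : Over S} (f : T' ⟶ T) {c₁ c₂ : T ⟶ Z} (e : c₁ = c₂) {d₁ d₂ : T' ⟶ Z} (e' : d₁ = d₂)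
        (h₁ : f ≫ c₁ = d₁) (h₂ : f ≫ c₂ = d₂),
        z.map (Over.homMk f h₁ : sob d₁ ⟶ sob c₁) ≫ eqToHom (congrArg (fun c => z.obj (sob c)) e) =
          eqToHom (congrArg (fun c => z.obj (sob c)) e') ≫ z.map (Over.homMk f h₂ : sob d₂ ⟶ sob c₂) := by
      rintro T' T f c₁ _ rfl d₁ _ rfl h₁ h₂
      simp
    have kp : ∀ {T' T : Over S} (f : T' ⟶ T) {c₁ c₂ : T ⟶ U} (e : c₁ = c₂) {d₁ d₂ : T' ⟶ U} (e' : d₁ = d₂)
        (h₁ : f ≫ c₁ = d₁) (h₂ : f ≫ c₂ = d₂), Pm p f h₁ ≫ eqToHom (congrArg (fun c => p.obj (Over.mk c)) e) =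
          eqToHom (congrArg (fun c => p.obj (Over.mk c)) e') ≫ Pm p f h₂ := by
      rintro T' T f c₁ _ rfl d₁ _ rfl h₁ h₂
      simp
    have kx : ∀ {T' T : Over S} (f : T' ⟶ T) {c₁ c₂ : T ⟶ W} (e : c₁ = c₂) {d₁ d₂ : T' ⟶ W} (e' : d₁ = d₂)
        (h₁ : f ≫ c₁ = d₁) (h₂ : f ≫ c₂ = d₂), Xm x f h₁ ≫ eqToHom (congrArg (fun c => x.obj (sob c)) e) =
          eqToHom (congrArg (fun c => x.obj (sob c)) e') ≫ Xm x f h₂ := by
      rintro T' T f c₁ _ rfl d₁ _ rfl h₁ h₂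
      simp
    let f := m.hom.left
    have hfa : f ≫ a'.obj.hom = a.obj.hom := Over.w m.hom
    have s1 := kz f (hz a'.obj.hom (b a') (hb a')) (hz a.obj.hom (f ≫ b a') hd)
      (show f ≫ a'.obj.hom ≫ w = a.obj.hom ≫ w by rw [reassoc_of% hfa])
      (show f ≫ (b a' ≫ l) ≫ π = ((f ≫ b a') ≫ l) ≫ π by simp)
    have s2 : z.map (Over.homMk f (show f ≫ (b a' ≫ l) ≫ π = ((f ≫ b a') ≫ l) ≫ π by simp) :
          sob (((f ≫ b a') ≫ l) ≫ π) ⟶ sob ((b a' ≫ l) ≫ π)) ≫ ι.hom.toNatTrans.app (sob (b a' ≫ l)) =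
        ι.hom.toNatTrans.app (sob ((f ≫ b a') ≫ l)) ≫
          Pm p f (show f ≫ (b a' ≫ l) ≫ g = ((f ≫ b a') ≫ l) ≫ g by simp) := e1
    have s3 := kp f (Category.assoc (b a') l g) (Category.assoc (f ≫ b a') l g)
      (show f ≫ (b a' ≫ l) ≫ g = ((f ≫ b a') ≫ l) ≫ g by simp) u₁
    have s4 := kx f (hb a') hd u₂ hfa
    show z.map (Over.homMk f (show f ≫ a'.obj.hom ≫ w = a.obj.hom ≫ w by rw [reassoc_of% hfa]) : sob (a.obj.hom ≫ w) ⟶ sob (a'.obj.hom ≫ w)) ≫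
      (_ ≫ _ ≫ _ ≫ _ ≫ _) = (_ ≫ _ ≫ _ ≫ _ ≫ _) ≫ Xm x f hfa
    rw [reassoc_of% s1, reassoc_of% s2, reassoc_of% s3, reassoc_of% eu, s4]
    simp
    rfl
  have hiso : ∀ a : (Stk.sieveCat R).obj, IsIso (α a.obj.hom (b a) (hb a)) := fun a => by
    have := hα a.obj.hom (b a) (hb a)
    have := isSC (hp := hst.1) (𝟙 a.obj.left) (α a.obj.hom (b a) (hb a))
    exact IsStronglyCartesian.isIso_of_base_isIso 𝒵.p (𝟙 a.obj.left) (α a.obj.hom (b a) (hb a))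
  let A : BasedFunctor.comp (Stk.sieveIncl R) F₁ ≅ BasedFunctor.comp (Stk.sieveIncl R) x :=
    BasedNatIso.mkNatIso (NatIso.ofComponents (fun a => @asIso _ _ _ _ (α a.obj.hom (b a) (hb a)) (hiso a))
      (fun m => hnat m)) (fun a => hα a.obj.hom (b a) (hb a))
  exact ⟨(Stk.resSieve R 𝒵).preimageIso A⟩

end Groth.Agent.AlgStkX.FieldChart
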