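import Groth.Agent.FibBase.Yoneda
import Groth.Agent.AlgSpDec.Glue
import Groth.Agent.StkLib.Basic
import Groth.Prelude.Def_AlgSt3

/-!
# Functors out of disjoint unions into stacks
-/

set_option autoImplicit false
set_option backward.isDefEq.respectTransparency false
set_option backward.isDefEq.respectTransparency.types false

universe u

open CategoryTheory CategoryTheory.Functor CategoryTheory.Limits AlgebraicGeometry
open Groth.Agent.FibBase Groth.Agent.AlgSpDec

namespace Groth.Agent.AlgStkX.FieldChart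

variable {S : Scheme.{u}} {𝒵 : AlgSt.Cat S}

theorem mem_J_etale_of_openCover {T : Over S} (𝒰 : T.left.OpenCover) (R : Sieve T)
    (h : ∀ i, R (CategoryTheory.Over.homMk (U := Over.mk (𝒰.f i ≫ T.hom)) (𝒰.f i) rfl)) :
    R ∈ QuotSh.J Scheme.etalePrecoverage S T := by
  rw [GrothendieckTopology.mem_over_iff]
  refine GrothendieckTopology.superset_covering _ ?_
    (Precoverage.generate_mem_toGrothendieck
      ((Scheme.ofArrows_mem_precoverage_iff (P := @Etale) (f := 𝒰.f)).2 ⟨fun x => 𝒰.exists_eq x, fun i => inferInstance⟩))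
  rw [Sieve.generate_le_iff]
  rintro _ _ ⟨i⟩
  rw [Sieve.overEquiv_iff]
  exact h i

variable (hst : Stk.IsStack (QuotSh.J Scheme.etalePrecoverage S) 𝒵)
include hst

/-- Over the empty scheme there is exactly one morphism lifting a given arrow. -/
theorem existsUnique_lift_of_isEmpty {V W : Over S} [IsEmpty V.left] (f : V ⟶ W) (P Q : 𝒵.obj)
    (hP : 𝒵.p.obj P = V) (hQ : 𝒵.p.obj Q = W) : ∃! φ : P ⟶ Q, 𝒵.p.IsHomLift f φ := by
  have := isFibered_of_isFibGrpd hst.1
  subst hP hQ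
  obtain ⟨Q', q, hq⟩ := hst.1.exists_lift f
  have := isSC (hp := hst.1) f q
  have hQ' : 𝒵.p.obj Q' = 𝒵.p.obj P := IsHomLift.domain_eq 𝒵.p f q
  let V := 𝒵.p.obj P
  have hbot : (⊥ : Sieve V) ∈ QuotSh.J Scheme.etalePrecoverage S V := by
    rw [GrothendieckTopology.mem_over_iff, Sieve.overEquiv_bot]
    exact GrothendieckTopology.superset_covering _ le_rfl (Scheme.bot_mem_grothendieckTopology _)
  haveI : (Stk.resSieve (⊥ : Sieve V) 𝒵).IsEquivalence := hst.2 _ hbot
  haveI := evalAtId_isEquivalence hst.1 V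
  let PF : 𝒵.p.Fiber V := ⟨P, rfl⟩
  let QF : 𝒵.p.Fiber V := ⟨Q', hQ'⟩
  let X := (FibCat.evalAtId 𝒵 V).objPreimage PF
  let Y := (FibCat.evalAtId 𝒵 V).objPreimage QF
  let emp : ∀ a : (Stk.sieveCat (⊥ : Sieve V)).obj, False := fun a => a.property
  have e : (PF ⟶ QF) ≃ ((Stk.resSieve (⊥ : Sieve V) 𝒵).obj X ⟶ (Stk.resSieve (⊥ : Sieve V) 𝒵).obj Y) :=
    ((((FibCat.evalAtId 𝒵 V).objObjPreimageIso PF).homCongr
      ((FibCat.evalAtId 𝒵 V).objObjPreimageIso QF)).symm.trans
        (Functor.FullyFaithful.ofFullyFaithful (FibCat.evalAtId 𝒵 V)).homEquiv.symm).trans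
      (Functor.FullyFaithful.ofFullyFaithful (Stk.resSieve (⊥ : Sieve V) 𝒵)).homEquiv
  have hsub : Subsingleton (PF ⟶ QF) := ⟨fun a b => e.injective (BasedNatTrans.homCategory.ext _ _
    (NatTrans.ext (funext fun a => (emp a).elim)))⟩
  let t : (Stk.resSieve (⊥ : Sieve V) 𝒵).obj X ⟶ (Stk.resSieve (⊥ : Sieve V) 𝒵).obj Y :=
    { app := fun a => (emp a).elim
      naturality := fun a => (emp a).elim
      isHomLift' := fun a => (emp a).elim }
  let ψ : PF ⟶ QF := e.symm t
  have hψ : 𝒵.p.IsHomLift (𝟙 V) ψ.1 := ψ.2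
  refine ⟨ψ.1 ≫ q, ?_, fun φ hφ => ?_⟩
  · have h : 𝒵.p.IsHomLift (𝟙 V ≫ f) (ψ.1 ≫ q) := inferInstance
    rwa [Category.id_comp] at h
  · let χ := IsStronglyCartesian.map 𝒵.p f q (g := 𝟙 V) (Category.id_comp f).symm φ
    have hχ : χ = ψ.1 := congrArg Subtype.val (hsub.elim (⟨χ, inferInstance⟩ : PF ⟶ QF) ψ)
    rw [← hχ]
    exact (IsStronglyCartesian.fac 𝒵.p f q (g := 𝟙 V) (Category.id_comp f).symm φ).symm

/-- Functors out of an empty scheme are isomorphic. -/
theorem nonempty_iso_of_isEmpty {V : Over S} [IsEmpty V.left] (X Y : FibCat.overCat V ⥤ᵇ 𝒵) :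
    Nonempty (X ≅ Y) := by
  have hV : ∀ b : (FibCat.overCat V : AlgSt.Cat S).obj, IsEmpty b.left.left := fun b =>
    Function.isEmpty b.hom.left
  choose φ hφ hu using fun b : (FibCat.overCat V : AlgSt.Cat S).obj =>
    have := hV b
    existsUnique_lift_of_isEmpty hst (𝟙 b.left) (X.obj b) (Y.obj b) (X.w_obj b) (Y.w_obj b)
  have hiso : ∀ b, IsIso (φ b) := fun b => by
    have := hφ b
    have := isSC (hp := hst.1) (𝟙 b.left) (φ b)
    exact IsStronglyCartesian.isIso_of_base_isIso 𝒵.p (𝟙 b.left) (φ b)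
  refine ⟨BasedNatIso.mkNatIso (NatIso.ofComponents (fun b => @asIso _ _ _ _ (φ b) (hiso b)) (fun {b b'} m => ?_))
    (fun b => hφ b)⟩
  have := hV b
  have := hφ b
  have := hφ b'
  have : (FibCat.overCat V).p.IsHomLift m.left m := IsHomLift.map (FibCat.overCat V).p m
  have := X.preserves_isHomLift m.left m
  have := Y.preserves_isHomLift m.left m
  have h1 : 𝒵.p.IsHomLift m.left (X.map m ≫ φ b') := by
    have h : 𝒵.p.IsHomLift (m.left ≫ 𝟙 b'.left) (X.map m ≫ φ b') := inferInstance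
    rwa [Category.comp_id] at h
  have h2 : 𝒵.p.IsHomLift m.left (φ b ≫ Y.map m) := by
    have h : 𝒵.p.IsHomLift (𝟙 b.left ≫ m.left) (φ b ≫ Y.map m) := inferInstance
    rwa [Category.id_comp] at h
  exact (existsUnique_lift_of_isEmpty hst m.left _ _ (X.w_obj b) (Y.w_obj b')).unique h1 h2

/-- Functors out of the components glue to a functor out of a disjoint union. -/
theorem exists_sigma_functor {κ : Type u} (T : κ → Over S) (zs : ∀ i, FibCat.overCat (T i) ⥤ᵇ 𝒵) :
    ∃ z : FibCat.overCat (sigmaOver T) ⥤ᵇ 𝒵,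
      ∀ i, Nonempty (BasedFunctor.comp (AlgSt.overMap (sigmaι T i)) z ≅ zs i) := by
  classical
  let R := Sieve.ofArrows _ (sigmaι T)
  have hR : R ∈ QuotSh.J Scheme.etalePrecoverage S (sigmaOver T) := by
    refine mem_J_etale_of_openCover (sigmaOpenCover fun i => (T i).left) _ fun i => ?_
    refine ⟨T i, Over.homMk (𝟙 (T i).left) ?_, sigmaι T i, ⟨i⟩, ?_⟩
    · change 𝟙 _ ≫ (T i).hom = Sigma.ι (fun i => (T i).left) i ≫ Sigma.desc _
      rw [Sigma.ι_desc, Category.id_comp]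
    · ext1
      exact Category.id_comp _
  have hfac : ∀ a : (Stk.sieveCat R).obj, ∃ (i : κ) (h : a.obj.left ⟶ T i), h ≫ sigmaι T i = a.obj.hom := fun a => by
    obtain ⟨W, h, g', hg', e⟩ := a.property
    cases hg' with
    | mk i => exact ⟨i, h, e⟩
  choose idx y hy using hfac
  have hmono : ∀ i, Mono (sigmaι T i) := fun i =>
    (Over.forget S).mono_of_mono_map (inferInstanceAs (Mono (sigmaι T i).left))
  let Ob : (Stk.sieveCat R).obj → 𝒵.obj := fun a => (zs (idx a)).obj (Over.mk (y a))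
  -- the two cases of a morphism
  have hcase : ∀ {V : Over S} {i j : κ} (h : V ⟶ T i) (h' : V ⟶ T j), h ≫ sigmaι T i = h' ≫ sigmaι T j →
      IsEmpty V.left ∨ i = j := by
    intro V i j h h' e
    by_cases hij : i = j
    · exact Or.inr hij
    · exact Or.inl ⟨fun z => hij (sigmaι_injective T (v := h.left z) (w := h'.left z) (by
        rw [← Scheme.Hom.comp_apply, ← Scheme.Hom.comp_apply, ← Over.comp_left, ← Over.comp_left, e]))⟩
  let Good : ∀ {i j : κ} {V W : Over S} (f : V ⟶ W) (h : V ⟶ T i) (h' : W ⟶ T j),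
      ((zs i).obj (Over.mk h) ⟶ (zs j).obj (Over.mk h')) → Prop := fun {i j V W} f h h' φ =>
    𝒵.p.IsHomLift f φ ∧ ∀ (e : i = j) (he : f ≫ h' = h ≫ eqToHom (congrArg T e)), φ =
      eqToHom (by subst e; simp) ≫
        (zs j).map (Over.homMk f he : Over.mk (h ≫ eqToHom (congrArg T e)) ⟶ Over.mk h')
  have huniq : ∀ {i j : κ} {V W : Over S} (f : V ⟶ W) (h : V ⟶ T i) (h' : W ⟶ T j),
      h ≫ sigmaι T i = (f ≫ h') ≫ sigmaι T j → ∃! φ, Good f h h' φ := by
    intro i j V W f h h' hh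
    by_cases hij : i = j
    · subst hij
      have hh' : f ≫ h' = h := ((hmono i).right_cancellation _ _ hh).symm
      refine ⟨(zs i).map (Over.homMk f hh' : Over.mk h ⟶ Over.mk h'), ⟨?_, ?_⟩, fun φ hφ => ?_⟩
      · have : (FibCat.overCat (T i)).p.IsHomLift f (Over.homMk f hh' : Over.mk h ⟶ Over.mk h') :=
          IsHomLift.map (FibCat.overCat (T i)).p (Over.homMk f hh' : Over.mk h ⟶ Over.mk h')
        exact (zs i).preserves_isHomLift f _
      · intro e he
        have key : ∀ (h₁ : V ⟶ T i) (e₁ : h₁ = h) (he₁ : f ≫ h' = h₁),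
            (zs i).map (Over.homMk f hh' : Over.mk h ⟶ Over.mk h') =
              eqToHom (congrArg (fun m => (zs i).obj (Over.mk m)) e₁.symm) ≫
                (zs i).map (Over.homMk f he₁ : Over.mk h₁ ⟶ Over.mk h') := by
          rintro _ rfl he₁
          simp
        exact key _ (by simp) he
      · have key : ∀ (h₁ : V ⟶ T i) (e₁ : h₁ = h) (he₁ : f ≫ h' = h₁),
            (zs i).map (Over.homMk f hh' : Over.mk h ⟶ Over.mk h') =
              eqToHom (congrArg (fun m => (zs i).obj (Over.mk m)) e₁.symm) ≫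
                (zs i).map (Over.homMk f he₁ : Over.mk h₁ ⟶ Over.mk h') := by
          rintro _ rfl he₁
          simp
        rw [hφ.2 rfl (by simpa using hh')]
        exact (key _ (by simp) _).symm
    · have : IsEmpty V.left := (hcase h (f ≫ h') hh).resolve_right hij
      obtain ⟨φ, hφ, hu⟩ := existsUnique_lift_of_isEmpty hst f _ _ ((zs i).w_obj (Over.mk h))
        ((zs j).w_obj (Over.mk h'))
      exact ⟨φ, ⟨hφ, fun e => absurd e hij⟩, fun ψ hψ => hu ψ hψ.1⟩
  have hid : ∀ {i : κ} {V : Over S} (h : V ⟶ T i), Good (𝟙 V) h h (𝟙 _) := by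
    intro i V h
    refine ⟨IsHomLift.id ((zs i).w_obj (Over.mk h)), fun e he => ?_⟩
    have key : ∀ (h₁ : V ⟶ T i) (e₁ : h₁ = h) (he₁ : 𝟙 V ≫ h = h₁), 𝟙 ((zs i).obj (Over.mk h)) =
        eqToHom (congrArg (fun m => (zs i).obj (Over.mk m)) e₁.symm) ≫
          (zs i).map (Over.homMk (𝟙 V) he₁ : Over.mk h₁ ⟶ Over.mk h) := by
      rintro h₁ rfl he₁
      rw [show (Over.homMk (𝟙 V) he₁ : Over.mk h₁ ⟶ Over.mk h₁) = 𝟙 _ from rfl]
      simp
    exact key _ (by simp) he
  have hcomp : ∀ {i j l : κ} {V W X : Over S} (f : V ⟶ W) (g : W ⟶ X) (h : V ⟶ T i) (h' : W ⟶ T j) (h'' : X ⟶ T l)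
      (_ : h ≫ sigmaι T i = (f ≫ h') ≫ sigmaι T j) (_ : h' ≫ sigmaι T j = (g ≫ h'') ≫ sigmaι T l)
      (φ : (zs i).obj (Over.mk h) ⟶ (zs j).obj (Over.mk h')) (ψ : (zs j).obj (Over.mk h') ⟶ (zs l).obj (Over.mk h'')),
      Good f h h' φ → Good g h' h'' ψ → Good (f ≫ g) h h'' (φ ≫ ψ) := by
    intro i j l V W X f g h h' h'' hh hh' φ ψ hφ hψ
    have := hφ.1
    have := hψ.1
    refine ⟨inferInstanceAs (𝒵.p.IsHomLift (f ≫ g) (φ ≫ ψ)), fun e he => ?_⟩
    subst e
    by_cases hij : i = j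
    · subst hij
      have h1 : f ≫ h' = h := ((hmono i).right_cancellation _ _ hh).symm
      have h2 : g ≫ h'' = h' := ((hmono i).right_cancellation _ _ hh').symm
      have key : ∀ {A B C : Over S} (a : A ⟶ B) (b : B ⟶ C) (x : A ⟶ T i) (y : B ⟶ T i) (z : C ⟶ T i) (x₁ : A ⟶ T i)
          (ex : x₁ = x) (ea : a ≫ y = x₁) (eb : b ≫ z = y) (x₂ : A ⟶ T i) (ex₂ : x₂ = x) (y₁ : B ⟶ T i)
          (ey : y₁ = y) (eb₁ : b ≫ z = y₁) (eab : (a ≫ b) ≫ z = x₂),
          (eqToHom (congrArg (fun m => (zs i).obj (Over.mk m)) ex.symm) ≫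
              (zs i).map (Over.homMk a ea : Over.mk x₁ ⟶ Over.mk y)) ≫
            (eqToHom (congrArg (fun m => (zs i).obj (Over.mk m)) ey.symm) ≫
              (zs i).map (Over.homMk b eb₁ : Over.mk y₁ ⟶ Over.mk z)) =
            eqToHom (congrArg (fun m => (zs i).obj (Over.mk m)) ex₂.symm) ≫
              (zs i).map (Over.homMk (a ≫ b) eab : Over.mk x₂ ⟶ Over.mk z) := by
        rintro A B C a b x y z _ rfl ea eb _ rfl _ rfl eb₁ eab
        simp only [eqToHom_refl, Category.id_comp]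
        rw [← (zs i).toFunctor.map_comp]
        rfl
      rw [hφ.2 rfl (by simpa using h1), hψ.2 rfl (by simpa using h2)]
      exact key f g h h' h'' _ (by simp) _ h2 _ (by simp) _ (by simp) _ he
    · have : IsEmpty V.left := (hcase h (f ≫ h') hh).resolve_right hij
      refine (existsUnique_lift_of_isEmpty hst (f ≫ g) _ _ ((zs i).w_obj (Over.mk h))
        ((zs i).w_obj (Over.mk h''))).unique (inferInstanceAs (𝒵.p.IsHomLift (f ≫ g) (φ ≫ ψ))) ?_
      have : (FibCat.overCat (T i)).p.IsHomLift (f ≫ g)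
          (Over.homMk (f ≫ g) he : Over.mk (h ≫ eqToHom (congrArg T rfl)) ⟶ Over.mk h'') :=
        IsHomLift.map (FibCat.overCat (T i)).p
          (Over.homMk (f ≫ g) he : Over.mk (h ≫ eqToHom (congrArg T rfl)) ⟶ Over.mk h'')
      have := (zs i).preserves_isHomLift (f ≫ g)
        (Over.homMk (f ≫ g) he : Over.mk (h ≫ eqToHom (congrArg T rfl)) ⟶ Over.mk h'')
      infer_instance
  have hyc : ∀ {a b : (Stk.sieveCat R).obj} (m : a ⟶ b),
      y a ≫ sigmaι T (idx a) = (m.hom.left ≫ y b) ≫ sigmaι T (idx b) := fun {a b} m => by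
    rw [Category.assoc, hy, hy]
    exact (Over.w m.hom).symm
  choose M hM hMu using fun {a b : (Stk.sieveCat R).obj} (m : a ⟶ b) =>
    huniq m.hom.left (y a) (y b) (hyc m)
  let H : Stk.sieveCat R ⥤ᵇ 𝒵 :=
    { toFunctor :=
        { obj := Ob
          map := fun m => M m
          map_id := fun a => (hMu (𝟙 a) _ (hid (y a))).symm
          map_comp := fun {a b c} m n => (hMu (m ≫ n) _
            (hcomp m.hom.left n.hom.left (y a) (y b) (y c) (hyc m) (hyc n) _ _ (hM m) (hM n))).symm }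
      w := CategoryTheory.Functor.ext (fun a => (zs (idx a)).w_obj _) (fun a b m => by
        have := (hM m).1
        exact IsHomLift.fac' 𝒵.p m.hom.left (M m)) }
  haveI : (Stk.resSieve R 𝒵).IsEquivalence := hst.2 R hR
  let z := (Stk.resSieve R 𝒵).objPreimage H
  let η : BasedFunctor.comp (Stk.sieveIncl R) z ≅ H := (Stk.resSieve R 𝒵).objObjPreimageIso H
  refine ⟨z, fun i => ?_⟩
  have hmem : ∀ b : (FibCat.overCat (T i) : AlgSt.Cat S).obj, R (b.hom ≫ sigmaι T i) := fun b =>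
    ⟨_, b.hom, sigmaι T i, ⟨i⟩, rfl⟩
  let ob : (FibCat.overCat (T i) : AlgSt.Cat S).obj → (Stk.sieveCat R).obj := fun b =>
    ⟨Over.mk (b.hom ≫ sigmaι T i), hmem b⟩
  have hb : ∀ b, y (ob b) ≫ sigmaι T (idx (ob b)) = (𝟙 b.left ≫ b.hom) ≫ sigmaι T i := fun b => by
    rw [Category.id_comp]; exact hy (ob b)
  choose C hC hCu using fun b => huniq (𝟙 b.left) (y (ob b)) b.hom (hb b)
  have hCiso : ∀ b, IsIso (C b) := fun b => by
    have := (hC b).1
    have := isSC (hp := hst.1) (𝟙 b.left) (C b)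
    exact IsStronglyCartesian.isIso_of_base_isIso 𝒵.p (𝟙 b.left) (C b)
  let α : ∀ b : (FibCat.overCat (T i) : AlgSt.Cat S).obj,
      z.obj (Over.mk (b.hom ≫ sigmaι T i)) ≅ (zs i).obj b := fun b =>
    have : IsIso (η.hom.toNatTrans.app (ob b)) :=
      ((BasedNatTrans.forgetful _ _).mapIso η).app (ob b) |>.isIso_hom
    asIso (η.hom.toNatTrans.app (ob b)) ≪≫ @asIso _ _ _ _ (C b) (hCiso b)
  refine ⟨BasedNatIso.mkNatIso (F := BasedFunctor.comp (AlgSt.overMap (sigmaι T i)) z) (G := zs i)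
    (NatIso.ofComponents α (fun {b b'} m => ?_)) (fun b => ?_)⟩
  · let m' : ob b ⟶ ob b' := ObjectProperty.homMk ((Over.map (sigmaι T i)).map m)
    have hn : z.map ((Over.map (sigmaι T i)).map m) ≫ η.hom.toNatTrans.app (ob b') =
        η.hom.toNatTrans.app (ob b) ≫ M m' := η.hom.toNatTrans.naturality m'
    have h1 := hcomp m.left (𝟙 b'.left) (y (ob b)) (y (ob b')) b'.hom (hyc m') (hb b') _ _ (hM m') (hC b')
    have hG : Good m.left b.hom b'.hom ((zs i).map m) := by
      have : (FibCat.overCat (T i)).p.IsHomLift m.left m := IsHomLift.map (FibCat.overCat (T i)).p m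
      refine ⟨(zs i).preserves_isHomLift m.left m, fun e he => ?_⟩
      have key : ∀ (h₁ : b.left ⟶ T i) (e₁ : h₁ = b.hom) (he₁ : m.left ≫ b'.hom = h₁), (zs i).map m =
          eqToHom (congrArg (fun q => (zs i).obj (Over.mk q)) e₁.symm) ≫
            (zs i).map (Over.homMk m.left he₁ : Over.mk h₁ ⟶ Over.mk b'.hom) := by
        rintro _ rfl he₁
        rw [show (Over.homMk m.left he₁ : Over.mk b.hom ⟶ Over.mk b'.hom) = m from rfl]
        exact (Category.id_comp _).symm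
      exact key _ (by simp) he
    have h2 := hcomp (𝟙 b.left) m.left (y (ob b)) b.hom b'.hom (hb b)
      (by rw [Over.w m]) _ _ (hC b) hG
    have hkey : M m' ≫ C b' = C b ≫ (zs i).map m := by
      rw [Category.comp_id] at h1
      rw [Category.id_comp] at h2
      exact (huniq m.left (y (ob b)) b'.hom (by rw [Over.w m]; exact hy (ob b))).unique h1 h2
    show z.map ((Over.map (sigmaι T i)).map m) ≫ η.hom.toNatTrans.app (ob b') ≫ C b' =
      (η.hom.toNatTrans.app (ob b) ≫ C b) ≫ (zs i).map m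
    rw [← Category.assoc, hn, Category.assoc, hkey, Category.assoc]
  · have : 𝒵.p.IsHomLift (𝟙 b.left) (η.hom.toNatTrans.app (ob b)) := η.hom.isHomLift' (ob b)
    have := (hC b).1
    exact inferInstanceAs (𝒵.p.IsHomLift (𝟙 b.left) (η.hom.toNatTrans.app (ob b) ≫ C b))

end Groth.Agent.AlgStkX.FieldChart
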