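import Groth.Agent.AlgStLib.LocQ
import Groth.Agent.AlgStLib.DiagCover
import Groth.Agent.AlgStLib.SpaceCalc
import Groth.Agent.AlgSpLib.SmoothLocalInst
import Groth.Agent.GerbFlat.Section

/-!
# Smooth charts of smooth stacks are smooth over the base
-/

set_option autoImplicit false
set_option backward.isDefEq.respectTransparency false
set_option backward.isDefEq.respectTransparency.types false

universe u

open CategoryTheory CategoryTheory.Limits AlgebraicGeometry AlgSp
open Groth.Agent.FibBase Groth.Agent.AlgSpLib Groth.Agent.AlgStLib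

namespace Groth.Agent.AlgStkX.FieldChart

variable {S : Scheme.{u}} {𝒵 : AlgSt.Cat S}

theorem smooth_hom_of_chart (h𝒵 : AlgSt.IsAlgStack Scheme.fppfPrecoverage 𝒵)
    (hsm : AlgSt.LocQ (LocP @Smooth) (FibCat.toSelf 𝒵)) {Z : Over S} {p : FibCat.overCat Z ⥤ᵇ 𝒵}
    (hp : AlgSt.RepByAlgSpWith (LocP @Smooth) p) : Smooth Z.hom := by
  let T₀ : Over S := Over.mk (𝟙 S)
  let hT : IsTerminal T₀ := Over.mkIdTerminal
  let y := FibCat.toSelf (FibCat.overCat T₀ : AlgSt.Cat S)
  have hfull : y.toFunctor.Full := ⟨fun {x y} g => ⟨Over.homMk g (hT.hom_ext _ _), rfl⟩⟩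
  have hfaith : y.toFunctor.Faithful := ⟨fun h => Over.OverMorphism.ext h⟩
  have hy : FibCat.IsEquivOver y := isEquivOver_of_exists_iso _ hfull hfaith fun η =>
    ⟨Over.mk (hT.from η), Iso.refl _, IsHomLift.id rfl⟩
  have hys : AlgSt.RepByAlgSpWith (LocP @Smooth) y :=
    repByAlgSpWith_of_isEquivOver (fun φ _ => locP_smooth_of_isIso φ) hy
  let t := FibCat.toSelf 𝒵
  let m := fpMap (F := t) (G := BasedFunctor.id _) (F' := t) (G' := y) (a := BasedFunctor.id _) (b := y)
    (c := BasedFunctor.id _) (Iso.refl _) (Iso.refl _)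
  have hq : FibCat.IsEquivOver (FibCat.fpFst t y) :=
    isEquivOver_of_iso (Iso.refl (BasedFunctor.comp m (FibCat.fpFst t (BasedFunctor.id _))))
      (isEquivOver_comp (fpMap_isEquivOver _ _ isEquivOver_id hy) (fpFst_id_isEquivOver t))
  obtain ⟨g, hg, -, -⟩ := isEquivOver_inv hq
  let c := BasedFunctor.comp p g
  obtain ⟨h, ⟨j⟩⟩ := GerbFlat.exists_overMap_iso (BasedFunctor.comp c (FibCat.fpSnd t y))
  have hf : LocQS (LocP @Smooth) t :=
    locQS_of_locQ (isSmoothLocalST_locP _ le_rfl) h𝒵.isStack.1 isFibGrpd_selfOver hsm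
  have h' : Smooth h.left := locP_yon_map (hf.scheme c hys (repByAlgSpWith_postcomp hg hp) j)
  rw [← Over.w h]
  show Smooth (h.left ≫ 𝟙 S)
  exact (Category.comp_id h.left).symm ▸ h'

end Groth.Agent.AlgStkX.FieldChart
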